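import Groth.Agent.PBlow.PB
import Mathlib.AlgebraicGeometry.Morphisms.Affine

/-!
# The charts of a projective bundle are affine spaces
-/

set_option autoImplicit false
set_option backward.isDefEq.respectTransparency false
set_option backward.isDefEq.respectTransparency.types false
set_option linter.style.haveILetI false

universe u

open CategoryTheory CategoryTheory.Limits AlgebraicGeometry TopologicalSpace Opposite MvPolynomial

noncomputable section

namespace Groth.Agent.PBlow

open Groth.Agent.AModX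

variable {X P : Scheme.{u}} {π : P ⟶ X} {E : X.Modules} {O1 : P.Modules}
  (q : (Scheme.Modules.pullback π).obj E ⟶ O1) {U : X.Opens}

theorem appLE_top {A B : Scheme.{u}} (f : A ⟶ B) : f.appLE ⊤ ⊤ le_top = f.appTop :=
  (f.app_eq_appLE (U := ⊤)).symm

theorem value_eq {n : ℕ} (b : Fin n → Γ(E, U)) {T : Scheme.{u}} (h : T ⟶ P) (t : Fin n → Γ(T, ⊤)) {k : Fin n}
    (hk : t k = 1) (hr : Rel q b h t) (hV : ⊤ ≤ h ⁻¹ᵁ locus q b k) (i : Fin n) :
    h.appLE (locus q b k) ⊤ hV (ratio q b k i) = t i := by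
  obtain ⟨hle, e, he⟩ := hr
  have hi : QCoh.pullSec h O1 hle (sig q b i) =
      h.appLE (locus q b k) ⊤ hV (ratio q b k i) • QCoh.pullSec h O1 hV (res O1 (locus_le q b k) (sig q b k)) := by
    rw [← QCoh.pullSec_smul, ratio_smul, pullSec_restr]
  have hkk : QCoh.pullSec h O1 hV (res O1 (locus_le q b k) (sig q b k)) = QCoh.pullSec h O1 hle (sig q b k) :=
    pullSec_restr h (locus_le q b k) hV _
  rw [← he i, hi, Scheme.Modules.Hom.app_smul, hkk, he k, hk]
  exact (mul_one (h.appLE (locus q b k) ⊤ hV (ratio q b k i))).symm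

variable {m : ℕ} (b : Fin (m + 1) → Γ(E, U)) (k : Fin (m + 1))

/-- The coordinates of the chart. -/
def coordHom : MvPolynomial (Fin m) Γ(X, U) →+* Γ(P, locus q b k) :=
  eval₂Hom (π.appLE U (locus q b k) (locus_le q b k)).hom fun i => ratio q b k (k.succAbove i)

theorem coordHom_C (a : Γ(X, U)) : coordHom q b k (C a) = π.appLE U (locus q b k) (locus_le q b k) a :=
  eval₂Hom_C _ _ _

theorem coordHom_X (i : Fin m) : coordHom q b k (MvPolynomial.X i) = ratio q b k (k.succAbove i) :=
  eval₂Hom_X' _ _ _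

theorem ΓSpecIso_inv_apply {R S : CommRingCat.{u}} (φ : R ⟶ S) (x : R) :
    (Spec.map φ).appTop ((Scheme.ΓSpecIso R).inv x) = (Scheme.ΓSpecIso S).inv (φ x) := by
  rw [← CommRingCat.comp_apply, ← Scheme.ΓSpecIso_inv_naturality, CommRingCat.comp_apply]

theorem toSpecΓ_appTop_inv {T : Scheme.{u}} (W : T.Opens) (y : Γ(T, W)) :
    W.toSpecΓ.appTop ((Scheme.ΓSpecIso Γ(T, W)).inv y) = W.topIso.inv y := by
  rw [Scheme.Opens.toSpecΓ_appTop, CommRingCat.comp_apply, Iso.inv_hom_id_apply]

/-- The chart. -/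
def chartMap : (locus q b k).toScheme ⟶ Spec (CommRingCat.of (MvPolynomial (Fin m) Γ(X, U))) :=
  (locus q b k).toSpecΓ ≫ Spec.map (CommRingCat.ofHom (coordHom q b k))

theorem chartMap_app (x : MvPolynomial (Fin m) Γ(X, U)) :
    (chartMap q b k).appTop ((Scheme.ΓSpecIso (CommRingCat.of _)).inv x) =
      (locus q b k).topIso.inv (coordHom q b k x) := by
  rw [chartMap, Scheme.Hom.comp_appTop, CommRingCat.comp_apply, ΓSpecIso_inv_apply]
  exact toSpecΓ_appTop_inv (locus q b k) (coordHom q b k x)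

theorem ι_appLE (y : Γ(P, locus q b k)) :
    (locus q b k).ι.appLE (locus q b k) ⊤ (locus q b k).ι_preimage_self.ge y =
      (locus q b k).topIso.inv y := by
  simp [Scheme.Opens.topIso, Scheme.Opens.ι_appLE]
  rfl

variable (hb : H23.Frame.IsFrame E b) (hP : KRR.IsProjBundle π E O1 q) (hU : IsAffineOpen U)

include hb hP hU in
theorem chart_iso : IsAffineOpen (locus q b k) ∧ Function.Bijective (coordHom q b k) := by
  classical
  let R := CommRingCat.of (MvPolynomial (Fin m) Γ(X, U))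
  let g : Spec R ⟶ X := Spec.map (CommRingCat.ofHom C) ≫ hU.fromSpec
  have hgU : (⊤ : (Spec R).Opens) ≤ g ⁻¹ᵁ U := fun z _ => by
    show hU.fromSpec (Spec.map (CommRingCat.ofHom C) z) ∈ U
    exact hU.range_fromSpec.le (Set.mem_range_self _)
  let t : Fin (m + 1) → Γ(Spec R, ⊤) := Fin.insertNth (α := fun _ => Γ(Spec R, ⊤)) k 1
    fun i => (Scheme.ΓSpecIso R).inv (MvPolynomial.X i)
  have htk : t k = 1 := Fin.insertNth_apply_same ..
  have hti : ∀ i, t (k.succAbove i) = (Scheme.ΓSpecIso R).inv (MvPolynomial.X i) := fun i => Fin.insertNth_apply_succAbove ..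
  obtain ⟨θ, hθg, hθ⟩ := exists_rel q b hb hP g hgU t htk
  have hθV : ⊤ ≤ θ ⁻¹ᵁ locus q b k := le_preimage_of_rel q b hP.invertible θ t htk hθ
  have hval : ∀ i, θ.appLE (locus q b k) ⊤ hθV (ratio q b k i) = t i := fun i =>
    value_eq q b θ t htk hθ hθV i
  let V := locus q b k
  have hrange : Set.range θ ⊆ Set.range V.ι := by
    rintro _ ⟨z, rfl⟩
    rw [Scheme.Opens.range_ι]
    exact hθV (show z ∈ (⊤ : (Spec R).Opens) from trivial)
  let θ' := IsOpenImmersion.lift V.ι θ hrange
  have hθ' : θ' ≫ V.ι = θ := IsOpenImmersion.lift_fac _ _ _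
  have hgapp : ∀ a, g.appLE U ⊤ hgU a = (Scheme.ΓSpecIso R).inv (C a) := by
    intro a
    have h2 : hU.fromSpec.appLE U ⊤ hU.fromSpec_preimage_self.ge = (Scheme.ΓSpecIso Γ(X, U)).inv := by
      simp [Scheme.Hom.appLE, hU.fromSpec_app_self, ← Functor.map_comp]
    have h3 := ConcreteCategory.congr_hom (Scheme.Hom.appLE_comp_appLE (Spec.map (CommRingCat.ofHom C)) hU.fromSpec
      U ⊤ (⊤ : (Spec R).Opens) hU.fromSpec_preimage_self.ge le_top) a
    refine h3.symm.trans ?_
    rw [CommRingCat.comp_apply, h2, appLE_top]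
    exact (congrArg (fun f => f.hom a) (Scheme.ΓSpecIso_inv_naturality (CommRingCat.ofHom
      (C : Γ(X, U) →+* MvPolynomial (Fin m) Γ(X, U))))).symm
  have hcomp : (θ.appLE V ⊤ hθV).hom.comp (coordHom q b k) = (Scheme.ΓSpecIso R).inv.hom := by
    refine MvPolynomial.ringHom_ext (fun a => ?_) fun i => ?_
    · show θ.appLE V ⊤ hθV (coordHom q b k (C a)) = (Scheme.ΓSpecIso R).inv (C a)
      rw [coordHom_C, ← hgapp a]
      refine (ConcreteCategory.congr_hom (Scheme.Hom.appLE_comp_appLE θ π U V ⊤ (locus_le q b k) hθV) a).trans ?_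
      simp only [hθg]
    · show θ.appLE V ⊤ hθV (coordHom q b k (MvPolynomial.X i)) = (Scheme.ΓSpecIso R).inv (MvPolynomial.X i)
      rw [coordHom_X, hval, hti]
  have h1 : θ' ≫ chartMap q b k = 𝟙 _ := by
    refine ext_of_isAffine ?_
    ext x
    obtain ⟨x, rfl⟩ := (ConcreteCategory.bijective_of_isIso (Scheme.ΓSpecIso R).inv).2 x
    show θ'.appTop ((chartMap q b k).appTop ((Scheme.ΓSpecIso R).inv x)) = (Scheme.ΓSpecIso R).inv x
    rw [chartMap_app, ← ι_appLE]
    have h3 := ConcreteCategory.congr_hom (Scheme.Hom.appLE_comp_appLE θ' V.ι V ⊤ ⊤ V.ι_preimage_self.ge le_top)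
      (coordHom q b k x)
    rw [CommRingCat.comp_apply, appLE_top] at h3
    refine h3.trans ?_
    simp only [hθ']
    exact RingHom.congr_fun hcomp x
  have hbase : chartMap q b k ≫ g = V.ι ≫ π := by
    show (V.toSpecΓ ≫ Spec.map (CommRingCat.ofHom (coordHom q b k))) ≫
      Spec.map (CommRingCat.ofHom C) ≫ hU.fromSpec = _
    have : CommRingCat.ofHom (C : Γ(X, U) →+* MvPolynomial (Fin m) Γ(X, U)) ≫ CommRingCat.ofHom (coordHom q b k) =
        π.appLE U V (locus_le q b k) := CommRingCat.hom_ext (RingHom.ext fun a => coordHom_C q b k a)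
    rw [Category.assoc, ← Spec.map_comp_assoc, this, ← Category.assoc, Scheme.Opens.toSpecΓ_SpecMap_appLE,
      Category.assoc, hU.toSpecΓ_fromSpec, Scheme.Hom.resLE_comp_ι]
  have hVι : (⊤ : V.toScheme.Opens) ≤ V.ι ⁻¹ᵁ V := V.ι_preimage_self.ge
  have hV2 : (⊤ : V.toScheme.Opens) ≤ (chartMap q b k ≫ θ) ⁻¹ᵁ V := fun z _ =>
    hθV (show chartMap q b k z ∈ (⊤ : (Spec R).Opens) from trivial)
  have h2 : chartMap q b k ≫ θ' = 𝟙 _ := by
    rw [← cancel_mono V.ι, Category.assoc, hθ', Category.id_comp]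
    refine rel_unique q b hb hP _ _ (by rw [Category.assoc, hθg, hbase])
      (fun i => V.ι.appLE V ⊤ hVι (ratio q b k i)) (k := k) (by rw [ratio_self, map_one]) ?_ (rel_of_locus q b _ hVι)
    have hfun : (fun i => (chartMap q b k ≫ θ).appLE V ⊤ hV2 (ratio q b k i)) =
        fun i => V.ι.appLE V ⊤ hVι (ratio q b k i) := by
      funext i
      have h3 := ConcreteCategory.congr_hom (Scheme.Hom.appLE_comp_appLE (chartMap q b k) θ V ⊤ ⊤ hθV le_top)
        (ratio q b k i)
      refine h3.symm.trans ?_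
      rw [CommRingCat.comp_apply, hval, appLE_top]
      induction i using Fin.succAboveCases k with
      | x => rw [htk, map_one, ratio_self, map_one]
      | p i =>
        rw [hti, ι_appLE, ← coordHom_X]
        exact chartMap_app q b k (MvPolynomial.X i)
    exact hfun ▸ rel_of_locus q b _ hV2
  haveI : IsIso (chartMap q b k) := ⟨θ', h2, h1⟩
  haveI : IsAffine V.toScheme := IsAffine.of_isIso (chartMap q b k)
  refine ⟨‹IsAffine V.toScheme›, ?_⟩
  have hb1 : Function.Bijective (chartMap q b k).appTop := ConcreteCategory.bijective_of_isIso _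
  have hb2 : Function.Bijective fun x => V.topIso.inv (coordHom q b k x) := by
    have := hb1.comp (ConcreteCategory.bijective_of_isIso (Scheme.ΓSpecIso R).inv)
    convert this using 1
    exact funext fun x => (chartMap_app q b k x).symm
  exact (Function.Bijective.of_comp_iff' (ConcreteCategory.bijective_of_isIso V.topIso.inv) _).1 hb2

end Groth.Agent.PBlow
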