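import Groth.Agent.InvX.GenLocusPull
import Groth.Agent.ExistEasy.PP.PullSec
import Groth.Agent.H23.Frame
import Groth.Agent.QCoh.Devissage

/-!
# Sections of inverse images against frames
-/

set_option autoImplicit false
set_option backward.isDefEq.respectTransparency false
set_option backward.isDefEq.respectTransparency.types false

universe u

open CategoryTheory CategoryTheory.Limits AlgebraicGeometry TopologicalSpace Opposite

noncomputable section

namespace Groth.Agent.PBlow

open Groth.Agent.AModX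

variable {X : Scheme.{u}} {M N : X.Modules}

/-- Being a frame is local. -/
theorem isFrame_of_cover {U : X.Opens} {e : Γ(M, U)}
    (h : ∀ p ∈ U, ∃ (W : X.Opens) (hW : W ≤ U), p ∈ W ∧ InvX.IsFrame (res M hW e)) : InvX.IsFrame e := by
  intro V hV
  choose W hW hpW hf using h
  refine ⟨fun r r' hr => ?_, fun x => ?_⟩
  · refine eq_of_locally (M := Coh.structureModule X) r r' fun p hp => ?_
    refine ⟨V ⊓ W p (hV hp), inf_le_left, ⟨hp, hpW p _⟩, ?_⟩
    refine (hf p (hV hp)).coord_unique inf_le_right ?_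
    have := congrArg (res M (inf_le_left : V ⊓ W p (hV hp) ≤ V)) hr
    simp only [res_smul, res_res] at this ⊢
    exact this
  · have hg := fun p : V => (hf p.1 (hV p.2)).exists_coord (inf_le_right : V ⊓ W p.1 (hV p.2) ≤ _)
      (res M (inf_le_left : V ⊓ W p.1 (hV p.2) ≤ V) x)
    choose g hg using hg
    simp only [res_res] at hg
    obtain ⟨r, hr, -⟩ := existsUnique_glue (M := Coh.structureModule X) (V := V)
      (fun p : V => V ⊓ W p.1 (hV p.2)) (fun _ => inf_le_left) (fun p hp => ⟨⟨p, hp⟩, hp, hpW p _⟩) g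
      fun p p' => by
        refine (hf p.1 (hV p.2)).coord_unique (inf_le_left.trans inf_le_right) ?_
        have h1 := congrArg (res M (inf_le_left : (V ⊓ W p.1 (hV p.2)) ⊓ (V ⊓ W p'.1 (hV p'.2)) ≤ _)) (hg p)
        have h2 := congrArg (res M (inf_le_right : (V ⊓ W p.1 (hV p.2)) ⊓ (V ⊓ W p'.1 (hV p'.2)) ≤ _)) (hg p')
        simp only [res_smul, res_res] at h1 h2 ⊢
        exact h1.symm.trans h2
    refine ⟨r, eq_of_locally _ _ fun p hp => ⟨_, inf_le_left, ⟨hp, hpW p (hV hp)⟩, ?_⟩⟩
    show res M (inf_le_left : V ⊓ W p (hV hp) ≤ V) ((show Γ(X, V) from r) • res M hV e) = _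
    rw [res_smul, res_res]
    refine Eq.trans ?_ (hg ⟨p, hp⟩).symm
    exact congrArg (· • res M (inf_le_left.trans hV) e) (hr ⟨p, hp⟩)

/-- A global frame trivialises the module. -/
theorem exists_iso_of_frame {e : Γ(M, ⊤)} (he : InvX.IsFrame e) :
    ∃ i : M ≅ Coh.structureModule X, i.hom.app ⊤ e = (1 : Γ(X, ⊤)) := by
  have : IsIso (QCoh.homOfTop e) := Scheme.Modules.Hom.isIso_iff_isIso_app.2 fun W => by
    refine (ConcreteCategory.isIso_iff_bijective _).2 ?_
    have : ((QCoh.homOfTop e).app W : Γ(X, W) → Γ(M, W)) = fun r : Γ(X, W) => r • res M le_top e :=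
      funext fun r => QCoh.homOfTop_app e r
    rw [this]
    exact he W le_top
  refine ⟨(asIso (QCoh.homOfTop e)).symm, ?_⟩
  have h1 : (QCoh.homOfTop e).app ⊤ (1 : Γ(X, ⊤)) = e :=
    (QCoh.homOfTop_app e (1 : Γ(X, ⊤))).trans ((one_smul _ _).trans (res_self _))
  have h2 := congrArg ((asIso (QCoh.homOfTop e)).inv.app ⊤) h1
  exact h2.symm.trans (congrArg (fun f : Coh.structureModule X ⟶ Coh.structureModule X =>
      Scheme.Modules.Hom.app f ⊤ (show Γ(Coh.structureModule X, ⊤) from (1 : Γ(X, ⊤))))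
    (asIso (QCoh.homOfTop e)).hom_inv_id)

variable {T : Scheme.{u}} (g : T ⟶ X)

/-- Sections of inverse images, as a homomorphism. -/
def pullSecHom (M : X.Modules) {V : X.Opens} {W : T.Opens} (hle : W ≤ g ⁻¹ᵁ V) :
    Γ(M, V) →+ Γ((Scheme.Modules.pullback g).obj M, W) :=
  AddMonoidHom.mk' (QCoh.pullSec g M hle) (QCoh.pullSec_add g M hle)

theorem pullSec_eq_res {V : X.Opens} {W : T.Opens} (hle : W ≤ g ⁻¹ᵁ V) (x : Γ(M, V)) :
    QCoh.pullSec g M hle x = res _ hle (InvX.pullElt g x) := rfl

theorem pullSec_restr {V V' : X.Opens} {W : T.Opens} (hV : V' ≤ V) (hle : W ≤ g ⁻¹ᵁ V') (x : Γ(M, V)) :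
    QCoh.pullSec g M hle (res M hV x) = QCoh.pullSec g M (hle.trans (g.preimage_mono hV)) x := by
  refine Eq.trans ?_ (res_self (M := (Scheme.Modules.pullback g).obj M) _)
  exact (ExistEasy.pullSec_res g M hV le_rfl (hle.trans (g.preimage_mono hV)) hle x).symm

theorem res_pullSec {V : X.Opens} {W W' : T.Opens} (hW : W' ≤ W) (hle : W ≤ g ⁻¹ᵁ V) (x : Γ(M, V)) :
    res _ hW (QCoh.pullSec g M hle x) = QCoh.pullSec g M (hW.trans hle) x :=
  (res_res (M := (Scheme.Modules.pullback g).obj M) hle hW (InvX.pullElt g x) :)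

theorem isFrame_pullSec {V : X.Opens} {W : T.Opens} (hle : W ≤ g ⁻¹ᵁ V) {x : Γ(M, V)}
    (hx : InvX.IsFrame x) : InvX.IsFrame (QCoh.pullSec g M hle x) :=
  (InvX.isFrame_pullElt g hx).res hle

variable {U : X.Opens} {n : ℕ} {b : Fin n → Γ(M, U)}

/-- A morphism from an inverse image is determined by the values on a frame. -/
theorem hom_ext_frame (hb : H23.Frame.IsFrame M b) (hgU : ⊤ ≤ g ⁻¹ᵁ U) {L : T.Modules}
    {s s' : (Scheme.Modules.pullback g).obj M ⟶ L}
    (h : ∀ i, s.app ⊤ (QCoh.pullSec g M hgU (b i)) = s'.app ⊤ (QCoh.pullSec g M hgU (b i))) : s = s' := by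
  apply ((Scheme.Modules.pullbackPushforwardAdjunction g).homEquiv _ _).injective
  refine Scheme.Modules.hom_ext _ _ fun V => ?_
  ext x
  show s.app (g ⁻¹ᵁ V) (InvX.pullElt g x) = s'.app (g ⁻¹ᵁ V) (InvX.pullElt g x)
  have hle : g ⁻¹ᵁ V ≤ g ⁻¹ᵁ (V ⊓ U) := fun z hz => ⟨hz, hgU trivial⟩
  obtain ⟨c, hc⟩ := (hb (V ⊓ U) inf_le_right).2 (res M inf_le_left x)
  have hx : InvX.pullElt g x = pullSecHom g M hle (H23.Frame.comb M b (V ⊓ U) inf_le_right c) := by
    rw [hc]
    refine Eq.trans ?_ (pullSec_restr g inf_le_left hle x).symm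
    exact (res_self (M := (Scheme.Modules.pullback g).obj M) _).symm
  rw [hx, H23.Frame.comb, map_sum, map_sum, map_sum]
  refine Finset.sum_congr rfl fun i _ => ?_
  have hi : pullSecHom g M hle (res M (inf_le_right : V ⊓ U ≤ U) (b i)) =
      res _ (le_top : g ⁻¹ᵁ V ≤ ⊤) (QCoh.pullSec g M hgU (b i)) :=
    (pullSec_restr g inf_le_right hle (b i)).trans (res_pullSec g le_top hgU (b i)).symm
  show s.app _ (QCoh.pullSec g M hle (c i • res M inf_le_right (b i))) =
    s'.app _ (QCoh.pullSec g M hle (c i • res M inf_le_right (b i)))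
  rw [QCoh.pullSec_smul, Scheme.Modules.Hom.app_smul, Scheme.Modules.Hom.app_smul]
  congr 1
  refine (congrArg (s.app _) hi).trans (Eq.trans ?_ (congrArg (s'.app _) hi).symm)
  rw [app_res, app_res, h i]

variable (hb : H23.Frame.IsFrame M b)

/-- The coordinates over `V ⊓ U`. -/
def coord (V : X.Opens) (x : Γ(M, V)) : Fin n → Γ(X, V ⊓ U) :=
  ((hb (V ⊓ U) inf_le_right).2 (res M inf_le_left x)).choose

theorem coord_spec (V : X.Opens) (x : Γ(M, V)) :
    H23.Frame.comb M b (V ⊓ U) inf_le_right (coord hb V x) = res M inf_le_left x :=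
  ((hb (V ⊓ U) inf_le_right).2 (res M inf_le_left x)).choose_spec

theorem coord_unique (V : X.Opens) (x : Γ(M, V)) (c : Fin n → Γ(X, V ⊓ U))
    (h : ∑ i, c i • res M (inf_le_right : V ⊓ U ≤ U) (b i) = res M inf_le_left x) : coord hb V x = c :=
  (hb (V ⊓ U) inf_le_right).1 ((coord_spec hb V x).trans h.symm)

theorem coord_sum (V : X.Opens) (x : Γ(M, V)) :
    ∑ i, coord hb V x i • res M (inf_le_right : V ⊓ U ≤ U) (b i) = res M inf_le_left x :=
  coord_spec hb V x

include hb in
/-- The morphism to the structure sheaf with given values on a frame. -/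
theorem exists_hom (hgU : ⊤ ≤ g ⁻¹ᵁ U) (t : Fin n → Γ(T, ⊤)) :
    ∃ s : (Scheme.Modules.pullback g).obj M ⟶ Coh.structureModule T,
      ∀ i, s.app ⊤ (QCoh.pullSec g M hgU (b i)) = t i := by
  classical
  have hle : ∀ V : X.Opens, g ⁻¹ᵁ V ≤ g ⁻¹ᵁ (V ⊓ U) := fun V z hz => ⟨hz, hgU trivial⟩
  let F : ∀ V : X.Opens, Γ(M, V) → Γ(T, g ⁻¹ᵁ V) := fun V x =>
    ∑ i, g.appLE (V ⊓ U) (g ⁻¹ᵁ V) (hle V) (coord hb V x i) * resR le_top (t i)
  have hadd : ∀ V x y, F V (x + y) = F V x + F V y := fun V x y => by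
    have : coord hb V (x + y) = coord hb V x + coord hb V y := coord_unique hb V _ _ (by
      simp only [Pi.add_apply, add_smul, Finset.sum_add_distrib, coord_sum, map_add])
    simp only [F, this, Pi.add_apply, map_add, add_mul, Finset.sum_add_distrib]
  have hsmul : ∀ (V : X.Opens) (r : Γ(X, V)) x, F V (r • x) = g.app V r * F V x := fun V r x => by
    have : coord hb V (r • x) = fun i => resR inf_le_left r * coord hb V x i := coord_unique hb V _ _ (by
      simp only [mul_smul, ← Finset.smul_sum, coord_sum, res_smul])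
    simp only [F, this, map_mul, Finset.mul_sum, mul_assoc]
    refine Finset.sum_congr rfl fun i _ => ?_
    congr 1
    rw [Scheme.Hom.app_eq_appLE]
    exact ConcreteCategory.congr_hom (Scheme.Hom.map_appLE g (hle V) (homOfLE (inf_le_left : V ⊓ U ≤ V)).op) r
  have hres : ∀ (V W : X.Opens) (h : W ≤ V) x, F W (res M h x) = resR (g.preimage_mono h) (F V x) :=
    fun V W h x => by
      have : coord hb W (res M h x) = fun i => resR (inf_le_inf_right U h) (coord hb V x i) :=
        coord_unique hb W _ _ (by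
          have := congrArg (res M (inf_le_inf_right U h)) (coord_sum hb V x)
          simp only [map_sum, res_smul, res_res] at this ⊢
          exact this)
      simp only [F, this, map_sum, map_mul, resR_resR]
      refine Finset.sum_congr rfl fun i _ => ?_
      congr 1
      refine (ConcreteCategory.congr_hom (Scheme.Hom.map_appLE g (hle W)
        (homOfLE (inf_le_inf_right U h)).op) (coord hb V x i)).trans ?_
      exact (ConcreteCategory.congr_hom (Scheme.Hom.appLE_map g (hle V)
        (homOfLE (g.preimage_mono h)).op) (coord hb V x i)).symm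
  let φ : M ⟶ (Scheme.Modules.pushforward g).obj (Coh.structureModule T) :=
    ⟨PresheafOfModules.homMk
      { app := fun V => AddCommGrpCat.ofHom (AddMonoidHom.mk' (fun x : Γ(M, unop V) => F (unop V) x)
          (hadd (unop V)))
        naturality := fun V W i => by
          ext x
          exact hres (unop V) (unop W) i.unop.le x }
      fun V r x => hsmul (unop V) r x⟩
  refine ⟨((Scheme.Modules.pullbackPushforwardAdjunction g).homEquiv _ _).symm φ, fun i => ?_⟩
  let s := ((Scheme.Modules.pullbackPushforwardAdjunction g).homEquiv _ _).symm φ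
  have hφ : (Scheme.Modules.pullbackPushforwardAdjunction g).homEquiv _ _ s = φ :=
    Equiv.apply_symm_apply _ _
  have h1 : s.app (g ⁻¹ᵁ U) (InvX.pullElt g (b i)) = F U (b i) :=
    congrArg (fun f => Scheme.Modules.Hom.app f U (b i)) hφ
  have h2 : coord hb U (b i) = fun j => if j = i then 1 else 0 := coord_unique hb U _ _ (by
    rw [Finset.sum_eq_single i (fun j _ hj => by rw [if_neg hj, zero_smul]) (by simp), if_pos rfl, one_smul])
  have h3 : F U (b i) = resR le_top (t i) := by
    show ∑ j, _ = _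
    rw [h2]
    dsimp only
    rw [Finset.sum_eq_single i (fun j _ hj => by rw [if_neg hj, map_zero, zero_mul]) (by simp), if_pos rfl,
      map_one, one_mul]
  refine (app_res s hgU (InvX.pullElt g (b i))).trans ?_
  rw [h1, h3]
  exact (resR_resR (le_top : g ⁻¹ᵁ U ≤ ⊤) hgU (t i)).trans (resR_self _)

end Groth.Agent.PBlow
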