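import Groth.Agent.PBlow.Alg
import Groth.Agent.PBlow.Chart
import Groth.Agent.BlowUpLib.Glue
import Groth.Agent.KoszulFlatLib.OfExact
import Groth.Agent.QCoh.LocFree
import Groth.Agent.ZClosLib.Basic
import Groth.Prelude.Def_RegImm
import Groth.Prelude.Def_ClSub2

/-!
# The blowing up inside the projective bundle
-/

set_option autoImplicit false
set_option backward.isDefEq.respectTransparency false
set_option backward.isDefEq.respectTransparency.types false
set_option linter.style.haveILetI false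

universe u

open CategoryTheory CategoryTheory.Limits AlgebraicGeometry TopologicalSpace Opposite MvPolynomial

noncomputable section

namespace Groth.Agent.PBlow

open Groth.Agent.AModX

section frames

variable {X : Scheme.{u}} {M : X.Modules}

/-- The coordinates in a frame, as a linear equivalence. -/
def frameEquiv {n : ℕ} {U : X.Opens} {s : Fin n → Γ(M, U)} (hs : H23.Frame.IsFrame M s) (V : X.Opens)
    (hV : V ≤ U) : (Fin n → Γ(X, V)) ≃ₗ[Γ(X, V)] Γ(M, V) :=
  LinearEquiv.ofBijective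
    ({ toFun := H23.Frame.comb M s V hV
       map_add' := fun c c' => by simp [H23.Frame.comb, add_smul, Finset.sum_add_distrib]
       map_smul' := fun r c => by simp [H23.Frame.comb, Finset.smul_sum, mul_smul] } :
      (Fin n → Γ(X, V)) →ₗ[Γ(X, V)] Γ(M, V)) (hs V hV)

/-- A basis of sections over an affine open is a frame. -/
theorem isFrame_basis (hM : FlatMod.IsFinLocFree M) {U : X.Opens} (hU : IsAffineOpen U) {n : ℕ}
    (b : Module.Basis (Fin n) Γ(X, U) Γ(M, U)) : H23.Frame.IsFrame M fun i => b i := by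
  classical
  obtain ⟨e⟩ := QCoh.exists_free_restrict (QCoh.isQCoh_of_isFinLocFree hM) hU
    (b.reindex Equiv.ulift.symm).repr
  obtain ⟨s, hs⟩ := H23.Frame.exists_frame e
  let Φ := frameEquiv hs U le_rfl
  let c : Fin n → Fin n → Γ(X, U) := fun i => Φ.symm (b i)
  let d : Fin n → Fin n → Γ(X, U) := fun j i => b.repr (s j) i
  have hc : ∀ i, ∑ j, c i j • s j = b i := fun i => by
    have h1 := Φ.apply_symm_apply (b i)
    refine Eq.trans ?_ h1
    exact Finset.sum_congr rfl fun j _ => congrArg (c i j • ·) (res_self (s j)).symm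
  have hd : ∀ j, ∑ i, d j i • b i = s j := fun j => b.sum_repr (s j)
  have hCD : ∀ i i', ∑ j, c i j * d j i' = if i' = i then 1 else 0 := fun i i' => by
    have h1 := congrArg (fun z => b.repr z i') (hc i)
    simp only [map_sum, map_smul, Finsupp.coe_finsetSum, Finset.sum_apply, Finsupp.coe_smul, Pi.smul_apply,
      smul_eq_mul, b.repr_self, Finsupp.single_apply] at h1
    rw [h1]
    exact if_congr eq_comm rfl rfl
  have hDC : ∀ j j', ∑ i, d j i * c i j' = if j' = j then 1 else 0 := fun j j' => by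
    have h1 : Φ.symm (s j) = fun j'' => if j'' = j then 1 else 0 := Φ.symm_apply_eq.2 (by
      show s j = ∑ j'', (if j'' = j then (1 : Γ(X, U)) else 0) • res M le_rfl (s j'')
      rw [Finset.sum_eq_single j (fun k _ hk => by rw [if_neg hk, zero_smul]) (by simp), if_pos rfl, one_smul,
        res_self])
    have h2 := congrFun (congrArg Φ.symm (hd j)) j'
    rw [h1] at h2
    simpa [c, map_sum, Finset.sum_apply] using h2
  intro V hV
  let C : (Fin n → Γ(X, V)) → (Fin n → Γ(X, V)) := fun x j => ∑ i, x i * resR hV (c i j)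
  have hC : Function.Bijective C := by
    refine Function.bijective_iff_has_inverse.2 ⟨fun y i => ∑ j, y j * resR hV (d j i), fun x => ?_, fun y => ?_⟩
    · funext i
      simp only [C, Finset.sum_mul, mul_assoc, ← map_mul]
      rw [Finset.sum_comm]
      simp only [← Finset.mul_sum, ← map_sum, hCD]
      simp
    · funext j
      simp only [C, Finset.sum_mul, mul_assoc, ← map_mul]
      rw [Finset.sum_comm]
      simp only [← Finset.mul_sum, ← map_sum, hDC]
      simp
  have key : H23.Frame.comb M (fun i => b i) V hV = H23.Frame.comb M s V hV ∘ C := by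
    funext x
    show ∑ i, x i • res M hV (b i) = ∑ j, C x j • res M hV (s j)
    simp only [← hc, map_sum, res_smul, C, Finset.smul_sum, Finset.sum_smul, ← mul_smul]
    rw [Finset.sum_comm]
  rw [key]
  exact (hs V hV).comp hC

/-- Frames on a nonempty open have the rank as their length. -/
theorem frame_card {c n : ℕ} (hM : FlatMod.IsFinLocFreeOfRank c M) {U : X.Opens} {x : X} (hx : x ∈ U)
    {s : Fin n → Γ(M, U)} (hs : H23.Frame.IsFrame M s) : n = c := by
  obtain ⟨W, hxW, ⟨i⟩⟩ := hM x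
  obtain ⟨t, ht⟩ := H23.Frame.exists_frame i
  haveI : Nontrivial Γ(X, U ⊓ W) := ⟨⟨0, 1, fun h => by
    have h1 := congrArg (X.presheaf.germ (U ⊓ W) x ⟨hx, hxW⟩) h
    rw [map_zero, map_one] at h1
    exact zero_ne_one h1⟩⟩
  have h := ((frameEquiv hs (U ⊓ W) inf_le_left).trans (frameEquiv ht (U ⊓ W) inf_le_right).symm).finrank_eq
  simpa using h

end frames

/-- The functions of a spectrum mapped into an affine open. -/
theorem specFromSpec_appLE {X : Scheme.{u}} {U : X.Opens} (hU : IsAffineOpen U) {R : CommRingCat.{u}}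
    (φ : Γ(X, U) ⟶ R) (h : (⊤ : (Spec R).Opens) ≤ (Spec.map φ ≫ hU.fromSpec) ⁻¹ᵁ U) (a : Γ(X, U)) :
    (Spec.map φ ≫ hU.fromSpec).appLE U ⊤ h a = (Scheme.ΓSpecIso R).inv (φ a) := by
  have h2 : hU.fromSpec.appLE U ⊤ hU.fromSpec_preimage_self.ge = (Scheme.ΓSpecIso Γ(X, U)).inv := by
    simp [Scheme.Hom.appLE, hU.fromSpec_app_self, ← Functor.map_comp]
  rw [← Scheme.Hom.appLE_comp_appLE (Spec.map φ) hU.fromSpec U ⊤ (⊤ : (Spec R).Opens)
    hU.fromSpec_preimage_self.ge le_top, CommRingCat.comp_apply, h2, appLE_top, ΓSpecIso_inv_apply]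

theorem comp_appLE_apply {A B C : Scheme.{u}} (f : A ⟶ B) (g : B ⟶ C) (U : C.Opens) (V : B.Opens) (W : A.Opens)
    (e₁ : V ≤ g ⁻¹ᵁ U) (e₂ : W ≤ f ⁻¹ᵁ V) {h : A ⟶ C} (hh : f ≫ g = h) (e₃ : W ≤ h ⁻¹ᵁ U) (x : Γ(C, U)) :
    f.appLE V W e₂ (g.appLE U V e₁ x) = h.appLE U W e₃ x := by
  subst hh
  exact ConcreteCategory.congr_hom (Scheme.Hom.appLE_comp_appLE f g U V W e₁ e₂) x

/-- Sections of an open immersion over an open containing the range and inside it. -/
theorem appLE_bijective {A B : Scheme.{u}} (c : A ⟶ B) [IsOpenImmersion c] {W : B.Opens}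
    (h₁ : (⊤ : A.Opens) ≤ c ⁻¹ᵁ W) (h₂ : W ≤ c.opensRange) : Function.Bijective (c.appLE W ⊤ h₁) := by
  haveI := c.isIso_app W h₂
  haveI : IsIso (A.presheaf.map (homOfLE h₁).op) := by
    rw [Subsingleton.elim (homOfLE h₁) (eqToHom (top_le_iff.1 h₁).symm)]
    infer_instance
  haveI : IsIso (c.appLE W ⊤ h₁) := inferInstanceAs (IsIso (c.app W ≫ A.presheaf.map (homOfLE h₁).op))
  exact ConcreteCategory.bijective_of_isIso _

theorem fromSpec_appLE {X : Scheme.{u}} {U : X.Opens} (hU : IsAffineOpen U)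
    (h : (⊤ : (Spec Γ(X, U)).Opens) ≤ hU.fromSpec ⁻¹ᵁ U) :
    hU.fromSpec.appLE U ⊤ h = (Scheme.ΓSpecIso Γ(X, U)).inv := by
  simp [Scheme.Hom.appLE, hU.fromSpec_app_self, ← Functor.map_comp]

/-- The chart of a blowing up over an affine open, and where it is. -/
theorem exists_blowUp_chart {X X' : Scheme.{u}} {J : X.IdealSheafData} {f : X' ⟶ X} (hf : BlowUp.IsBlowUp f J)
    {U : X.Opens} (hU : IsAffineOpen U) (I : Ideal Γ(X, U)) (hJ : J.ideal ⟨U, hU⟩ = I) (ak : I) :
    ∃ (c : Spec (CommRingCat.of (BlowUp.affineAlgebra Γ(X, U) I (ak : Γ(X, U)))) ⟶ X') (_ : IsOpenImmersion c),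
      c ≫ f = Spec.map (CommRingCat.ofHom (algebraMap Γ(X, U) (BlowUp.affineAlgebra Γ(X, U) I (ak : Γ(X, U))))) ≫
        hU.fromSpec ∧
      ∀ (W : X'.Opens) (hW : IsAffineOpen W) (hWf : W ≤ f ⁻¹ᵁ U),
        (J.comap f).ideal ⟨W, hW⟩ = Ideal.span {f.appLE U W hWf (ak : Γ(X, U))} → ∀ z ∈ W, z ∈ c.opensRange := by
  subst hJ
  let p := pullback.fst f hU.fromSpec
  let g := pullback.snd f hU.fromSpec
  have hbU := BlowUpLib.isBlowUp_of_isPullback (IsPullback.of_hasPullback f hU.fromSpec).flip hf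
  rw [BlowUpLib.comap_fromSpec J ⟨U, hU⟩] at hbU
  obtain ⟨ε, hε⟩ := BlowUpLib.exists_iso (BlowUpLib.isBlowUp_local (J.ideal ⟨U, hU⟩)) hbU
  refine ⟨BlowUpLib.chart _ ak ≫ ε.hom ≫ p, inferInstance, ?_, fun W hW hWf hJW z hz => ?_⟩
  · simp only [p, Category.assoc, pullback.condition]
    rw [reassoc_of% hε, BlowUpLib.chart_toBase_assoc]
  have hWp : W ≤ p.opensRange := fun y hy => by
    show y ∈ Set.range p
    rw [Scheme.Pullback.range_fst, Set.mem_preimage, hU.range_fromSpec]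
    exact hWf hy
  obtain ⟨w, hw⟩ : z ∈ Set.range p := hWp hz
  let W' : (pullback f hU.fromSpec).affineOpens := ⟨p ⁻¹ᵁ W, hW.preimage_of_isOpenImmersion p hWp⟩
  have hW' : ((BlowUpLib.centre (J.ideal ⟨U, hU⟩)).comap g).ideal W' =
      Ideal.span {BlowUpLib.strHom g W'.1 (ak : Γ(X, U))} := by
    rw [← BlowUpLib.comap_fromSpec J ⟨U, hU⟩, ← Scheme.IdealSheafData.comap_comp]
    show (J.comap (g ≫ hU.fromSpec)).ideal W' = _
    rw [← pullback.condition, Scheme.IdealSheafData.comap_comp,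
      ModPairLib.ideal_comap (J.comap f) p ⟨W, hW⟩ W' le_rfl, hJW, Ideal.map_span, Set.image_singleton]
    congr 2
    have hgU : W'.1 ≤ (g ≫ hU.fromSpec) ⁻¹ᵁ U := fun y _ => hU.range_fromSpec.le (Set.mem_range_self _)
    refine (comp_appLE_apply p f U W W'.1 hWf le_rfl pullback.condition hgU _).trans ?_
    rw [← comp_appLE_apply g hU.fromSpec U ⊤ W'.1 hU.fromSpec_preimage_self.ge le_top rfl hgU,
      fromSpec_appLE]
    rfl
  have hh : ε.inv ≫ BlowUpLib.toBase _ = g := by rw [← hε, Iso.inv_hom_id_assoc]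
  obtain ⟨y, hy⟩ := BlowUpLib.range_subset_chart _ hbU.1 ε.inv hh ak W' hW' w
    (show p w ∈ W by rw [hw]; exact hz)
  refine ⟨y, ?_⟩
  show p (ε.hom (BlowUpLib.chart _ ak y)) = z
  rw [hy, ← Scheme.Hom.comp_apply ε.inv, ε.inv_hom_id, ← hw]
  rfl

variable {X X' P : Scheme.{u}} {E : X.Modules} {u : E ⟶ Coh.structureModule X} {J : X.IdealSheafData}
  {π : P ⟶ X} {O1 : P.Modules} {q : (Scheme.Modules.pullback π).obj E ⟶ O1}
  {f : X' ⟶ X} {j : X' ⟶ P} (hjπ : j ≫ π = f)
  (e : (Scheme.Modules.pullback j).obj O1 ≅ ClSub.idealMod (BlowUp.exceptional f J))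
  (hcomp : (Scheme.Modules.pullbackCongr hjπ).inv.app E ≫ (Scheme.Modules.pullbackComp j π).inv.app E ≫
      (Scheme.Modules.pullback j).map q ≫ e.hom ≫ ClSub.idealModι (BlowUp.exceptional f J) =
    (Scheme.Modules.pullback f).map u ≫
      ((Scheme.Modules.pullbackPushforwardAdjunction f).homEquiv _ _).symm
        (SheafOfModules.unitToPushforwardObjUnit f.toRingCatSheafHom))
  {U : X.Opens}

include hjπ in
theorem preimage_locus_le {n : ℕ} (b : Fin n → Γ(E, U)) (k : Fin n) : j ⁻¹ᵁ locus q b k ≤ f ⁻¹ᵁ U := by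
  subst hjπ
  exact j.preimage_mono (locus_le q b k)

include hcomp in
/-- The defining property of the morphism into the bundle, on sections. -/
theorem value {n : ℕ} (b : Fin n → Γ(E, U)) {W : X'.Opens} (hW : W ≤ f ⁻¹ᵁ U) (hle : W ≤ j ⁻¹ᵁ (π ⁻¹ᵁ U))
    (i : Fin n) :
    (show Γ(X', W) from (ClSub.idealModι (BlowUp.exceptional f J)).app W
        (e.hom.app W (QCoh.pullSec j O1 hle (sig q b i)))) =
      f.appLE U W hW (show Γ(X, U) from u.app U (b i)) := by
  have h := congrArg (fun φ => Scheme.Modules.Hom.app φ W (QCoh.pullSec f E hW (b i))) hcomp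
  have hL := comp_app q b j f hjπ e hW hle i
  refine Eq.trans ?_ (h.trans ?_)
  · exact congrArg ((ClSub.idealModι (BlowUp.exceptional f J)).app W) hL.symm
  · show ((((Scheme.Modules.pullbackPushforwardAdjunction f).homEquiv _ _).symm
        (SheafOfModules.unitToPushforwardObjUnit f.toRingCatSheafHom))).app W
      (((Scheme.Modules.pullback f).map u).app W (QCoh.pullSec f E hW (b i))) = _
    rw [ExistEasy.pullSec_natural]
    let χ := ((Scheme.Modules.pullbackPushforwardAdjunction f).homEquiv _ _).symm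
        (SheafOfModules.unitToPushforwardObjUnit f.toRingCatSheafHom)
    have hχ : χ.app (f ⁻¹ᵁ U) (InvX.pullElt f (u.app U (b i))) =
        f.app U (show Γ(X, U) from u.app U (b i)) :=
      congrArg (fun φ => Scheme.Modules.Hom.app φ U (u.app U (b i))) (Equiv.apply_symm_apply
        ((Scheme.Modules.pullbackPushforwardAdjunction f).homEquiv _ _)
        (SheafOfModules.unitToPushforwardObjUnit f.toRingCatSheafHom))
    exact (app_res χ hW _).trans (congrArg (resR hW) hχ)

variable {m : ℕ} (b : Fin (m + 1) → Γ(E, U)) (k : Fin (m + 1))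

include hcomp in
/-- The relation on the chart. -/
theorem relation {W : X'.Opens} (hW : W ≤ j ⁻¹ᵁ locus q b k) (hWf : W ≤ f ⁻¹ᵁ U) (i : Fin (m + 1)) :
    f.appLE U W hWf (show Γ(X, U) from u.app U (b i)) =
      j.appLE (locus q b k) W hW (ratio q b k i) * f.appLE U W hWf (show Γ(X, U) from u.app U (b k)) := by
  have hle : W ≤ j ⁻¹ᵁ (π ⁻¹ᵁ U) := hW.trans (j.preimage_mono (locus_le q b k))
  rw [← value hjπ e hcomp b hWf hle i, ← value hjπ e hcomp b hWf hle k]
  have h1 : QCoh.pullSec j O1 hle (sig q b i) =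
      j.appLE (locus q b k) W hW (ratio q b k i) • QCoh.pullSec j O1 hle (sig q b k) := by
    rw [← pullSec_restr j (locus_le q b k) hW (sig q b k), ← QCoh.pullSec_smul, ratio_smul, pullSec_restr]
  rw [h1, Scheme.Modules.Hom.app_smul, Scheme.Modules.Hom.app_smul]
  rfl

include hcomp in
/-- On the chart the `k`-th equation is a nonzerodivisor. -/
theorem eq_zero_of_mul {W : X'.Opens} (hW : W ≤ j ⁻¹ᵁ locus q b k) (hWf : W ≤ f ⁻¹ᵁ U) (c : Γ(X', W))
    (hc : c * f.appLE U W hWf (show Γ(X, U) from u.app U (b k)) = 0) : c = 0 := by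
  have hle : W ≤ j ⁻¹ᵁ (π ⁻¹ᵁ U) := hW.trans (j.preimage_mono (locus_le q b k))
  rw [← value hjπ e hcomp b hWf hle k] at hc
  have hf : InvX.IsFrame (QCoh.pullSec j O1 hle (sig q b k)) := by
    rw [← pullSec_restr j (locus_le q b k) hW]
    exact isFrame_pullSec j hW (isFrame_sig q b k)
  haveI : Mono (ClSub.idealModι (BlowUp.exceptional f J)) := by unfold ClSub.idealModι; infer_instance
  have h1 : e.hom.app W (c • QCoh.pullSec j O1 hle (sig q b k)) = 0 := by
    apply ZClosLib.app_injective_of_mono (ClSub.idealModι (BlowUp.exceptional f J)) W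
    rw [map_zero, Scheme.Modules.Hom.app_smul, Scheme.Modules.Hom.app_smul]
    exact hc
  have h2 : c • QCoh.pullSec j O1 hle (sig q b k) = 0 := by
    apply (ZClosLib.app_bijective_of_isIso e.hom W).1
    rw [h1, map_zero]
  refine hf.coord_unique le_rfl ?_
  rw [res_self, h2, zero_smul]

section chart

variable {C : CommRingCat.{u}} (hU : IsAffineOpen U) (φ : Γ(X, U) ⟶ C) (c : Spec C ⟶ X') [IsOpenImmersion c]
  (hcf : c ≫ f = Spec.map φ ≫ hU.fromSpec)
  (a : Fin (m + 1) → Γ(X, U)) (ha : ∀ i, (show Γ(X, U) from u.app U (b i)) = a i)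

include hcf in
theorem opensRange_le : c.opensRange ≤ f ⁻¹ᵁ U := by
  rintro _ ⟨z, rfl⟩
  show (c ≫ f) z ∈ U
  rw [hcf]
  exact hU.range_fromSpec.le (Set.mem_range_self _)

omit [IsOpenImmersion c] in
include hcf in
theorem appLE_chart (x : Γ(X, U)) (W : X'.Opens) (hW : W ≤ f ⁻¹ᵁ U) (h : (⊤ : (Spec C).Opens) ≤ c ⁻¹ᵁ W) :
    c.appLE W ⊤ h (f.appLE U W hW x) = (Scheme.ΓSpecIso C).inv (φ x) := by
  rw [comp_appLE_apply c f U W ⊤ hW h hcf fun z _ => hU.range_fromSpec.le (Set.mem_range_self _),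
    specFromSpec_appLE]

include hcf hcomp ha in
/-- A chart on which the `k`-th equation divides the others lies over the `k`-th chart of the bundle. -/
theorem range_le_preimage (hb : H23.Frame.IsFrame E b) (hP : KRR.IsProjBundle π E O1 q)
    (hdiv : ∀ i, ∃ x : C, x * φ (a k) = φ (a i)) : c.opensRange ≤ j ⁻¹ᵁ locus q b k := by
  intro z hz
  have hcU : c.opensRange ≤ f ⁻¹ᵁ U := opensRange_le hU φ c hcf
  obtain ⟨k', hk'⟩ := exists_mem_locus q b hb hP (p := j z) (show (j ≫ π) z ∈ U by rw [hjπ]; exact hcU hz)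
  let W := c.opensRange ⊓ j ⁻¹ᵁ locus q b k'
  have hWf : W ≤ f ⁻¹ᵁ U := inf_le_left.trans hcU
  have hWk : W ≤ j ⁻¹ᵁ locus q b k' := inf_le_right
  obtain ⟨t, ht⟩ : ∃ t : Γ(X', W), f.appLE U W hWf (a k') = t * f.appLE U W hWf (a k) := by
    have htop : (⊤ : (Spec C).Opens) ≤ c ⁻¹ᵁ c.opensRange := fun w _ => ⟨w, rfl⟩
    have hbij := appLE_bijective c htop le_rfl
    obtain ⟨x, hx⟩ := hdiv k'
    obtain ⟨t₀, ht₀⟩ := hbij.2 ((Scheme.ΓSpecIso C).inv x)
    refine ⟨resR inf_le_left t₀, ?_⟩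
    have h0 : f.appLE U c.opensRange hcU (a k') = t₀ * f.appLE U c.opensRange hcU (a k) := by
      apply hbij.1
      rw [map_mul, ht₀, appLE_chart hU φ c hcf, appLE_chart hU φ c hcf, ← map_mul, hx]
    have hres : ∀ x, resR (inf_le_left : W ≤ c.opensRange) (f.appLE U c.opensRange hcU x) = f.appLE U W hWf x :=
      fun x => ConcreteCategory.congr_hom (Scheme.Hom.appLE_map f hcU (homOfLE (inf_le_left : W ≤ c.opensRange)).op) x
    rw [← hres, ← hres, h0, map_mul]
  have hr := relation hjπ e hcomp b k' hWk hWf k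
  rw [ha, ha] at hr
  have h0 : (1 - t * j.appLE (locus q b k') W hWk (ratio q b k' k)) * f.appLE U W hWf (a k') = 0 := by
    rw [sub_mul, one_mul, mul_assoc, ← hr, ← ht, sub_self]
  rw [← ha k'] at h0
  have hu : IsUnit (j.appLE (locus q b k') W hWk (ratio q b k' k)) :=
    IsUnit.of_mul_eq_one_right t (sub_eq_zero.1 (eq_zero_of_mul hjπ e hcomp b k' hWk hWf _ h0)).symm
  have hb2 := X'.basicOpen_of_isUnit hu
  rw [Scheme.basicOpen_appLE] at hb2
  have hzW : z ∈ W := ⟨hz, hk'⟩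
  rw [← hb2] at hzW
  exact basicOpen_le_locus q b (locus_le q b k') (isFrame_sig q b k') (ratio_smul q b k' k).symm hzW.2

include hcf hcomp ha in
/-- The coordinates of the bundle pulled back to the chart. -/
theorem appLE_coordHom (h : (⊤ : (Spec C).Opens) ≤ c ⁻¹ᵁ (j ⁻¹ᵁ locus q b k)) (x : Fin m → C)
    (hx : ∀ i, x i * φ (a k) = φ (a (k.succAbove i))) (hnzd : ∀ z : C, z * φ (a k) = 0 → z = 0) :
    (c.appLE (j ⁻¹ᵁ locus q b k) ⊤ h).hom.comp ((j.app (locus q b k)).hom.comp (coordHom q b k)) =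
      (Scheme.ΓSpecIso C).inv.hom.comp (MvPolynomial.eval₂Hom φ.hom x) := by
  have hDf : j ⁻¹ᵁ locus q b k ≤ f ⁻¹ᵁ U := preimage_locus_le hjπ b k
  refine MvPolynomial.ringHom_ext (fun r => ?_) fun i => ?_
  · show c.appLE _ ⊤ h (j.app _ (coordHom q b k (MvPolynomial.C r))) =
      (Scheme.ΓSpecIso C).inv (eval₂Hom φ.hom x (MvPolynomial.C r))
    rw [coordHom_C, eval₂Hom_C, ← appLE_chart hU φ c hcf r _ hDf h, Scheme.Hom.app_eq_appLE]
    congr 1
    exact comp_appLE_apply j π U _ _ (locus_le q b k) le_rfl hjπ hDf r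
  · show c.appLE _ ⊤ h (j.app _ (coordHom q b k (MvPolynomial.X i))) =
      (Scheme.ΓSpecIso C).inv (eval₂Hom φ.hom x (MvPolynomial.X i))
    rw [coordHom_X, eval₂Hom_X']
    obtain ⟨y, hy⟩ := (ConcreteCategory.bijective_of_isIso (Scheme.ΓSpecIso C).inv).2
      (c.appLE _ ⊤ h (j.app _ (ratio q b k (k.succAbove i))))
    rw [← hy]
    congr 1
    refine sub_eq_zero.1 (hnzd _ ?_)
    rw [sub_mul, sub_eq_zero, hx]
    apply (ConcreteCategory.bijective_of_isIso (Scheme.ΓSpecIso C).inv).1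
    rw [map_mul, hy, ← appLE_chart hU φ c hcf _ _ hDf h, ← appLE_chart hU φ c hcf _ _ hDf h, ← map_mul,
      Scheme.Hom.app_eq_appLE, ← ha, ← ha]
    exact congrArg _ (relation hjπ e hcomp b k le_rfl hDf (k.succAbove i)).symm

end chart

include hcomp in
/-- The chart of the blowing up is the preimage of the chart of the bundle, with its equations. -/
theorem chart_data_eqs (hb : H23.Frame.IsFrame E b) (hP : KRR.IsProjBundle π E O1 q) (hf : BlowUp.IsBlowUp f J)
    (hU : IsAffineOpen U) (a : Fin (m + 1) → Γ(X, U)) (ha : ∀ i, (show Γ(X, U) from u.app U (b i)) = a i)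
    (hJ : J.ideal ⟨U, hU⟩ = Ideal.span (Set.range a)) (hex : WiebeLib.IsExact a) :
    IsAffineOpen (locus q b k) ∧ IsClosedImmersion (j ∣_ locus q b k) ∧
      LCI.IsKoszulRegularSeq Γ(P, locus q b k) (List.ofFn fun i => coordHom q b k (eqs a k i)) ∧
        RingHom.ker (j.app (locus q b k)).hom = Ideal.ofList (List.ofFn fun i => coordHom q b k (eqs a k i)) := by
  obtain ⟨hV, hψ⟩ := chart_iso q b k hb hP hU
  let V := locus q b k
  let D : X'.Opens := j ⁻¹ᵁ V
  let Ca := CommRingCat.of (RegBlow6.chartAlg a k)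
  let φ : Γ(X, U) ⟶ Ca := CommRingCat.ofHom (algebraMap Γ(X, U) (RegBlow6.chartAlg a k))
  obtain ⟨c, hc, hcf, hcW⟩ := exists_blowUp_chart hf hU (RegBlow6.cI a) hJ ⟨a k, RegBlow6.mem_cI a k⟩
  -- inclusion of the preimage
  have hle1 : D ≤ c.opensRange := by
    intro z hz
    obtain ⟨_, ⟨W, hW, rfl⟩, hzW, hWD⟩ := X'.isBasis_affineOpens.exists_subset_of_mem_open
      (show z ∈ D from hz) D.2
    have hWf : W ≤ f ⁻¹ᵁ U := (show W ≤ D from hWD).trans (preimage_locus_le hjπ b k)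
    have hJW : (J.comap f).ideal ⟨W, hW⟩ = Ideal.span {f.appLE U W hWf (a k)} := by
      rw [ModPairLib.ideal_comap J f ⟨U, hU⟩ ⟨W, hW⟩ hWf, hJ, Ideal.map_span]
      refine le_antisymm (Ideal.span_le.2 ?_) ((Ideal.span_singleton_le_iff_mem _).2
        (Ideal.subset_span ⟨a k, ⟨k, rfl⟩, rfl⟩))
      rintro _ ⟨_, ⟨i, rfl⟩, rfl⟩
      refine Ideal.mem_span_singleton'.2 ⟨j.appLE V W hWD (ratio q b k i), ?_⟩
      rw [← ha i, ← ha k]
      exact (relation hjπ e hcomp b k hWD hWf i).symm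
    exact hcW W hW hWf hJW z hzW
  have hdiv : ∀ i, ∃ x : Ca, x * φ (a k) = φ (a i) := fun i => by
    have hmem : algebraMap Γ(X, U) (RegBlow6.chartAlg a k) (a i) ∈ RegBlow6.exc a k :=
      Ideal.mem_map_of_mem _ (RegBlow6.mem_cI a i)
    rw [RegBlow6.exc_eq, Ideal.mem_span_singleton'] at hmem
    exact hmem
  have hle2 : c.opensRange ≤ D := range_le_preimage hjπ e hcomp b k hU φ c hcf a ha hb hP hdiv
  have hDeq : D = c.opensRange := le_antisymm hle1 hle2
  have hDaff : IsAffineOpen D := hDeq ▸ isAffineOpen_opensRange c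
  have htop : (⊤ : (Spec Ca).Opens) ≤ c ⁻¹ᵁ D := fun w _ => hle2 ⟨w, rfl⟩
  have hbijD := appLE_bijective c htop hle1
  have hnzd : ∀ z : Ca, z * φ (a k) = 0 → z = 0 := fun z hz =>
    Subtype.ext (mem_nonZeroDivisors_iff_right.mp
      (IsLocalization.Away.algebraMap_isUnit (S := Localization.Away (a k)) (a k)).mem_nonZeroDivisors z.1
      (congrArg Subtype.val hz))
  let R := Scheme.ΓSpecIso Ca
  let ρ : MvPolynomial (Fin m) Γ(X, U) →+* Γ(Spec Ca, ⊤) :=
    (c.appLE D ⊤ htop).hom.comp ((j.app V).hom.comp (coordHom q b k))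
  have hρ : ρ = R.inv.hom.comp (pres a k).toRingHom :=
    appLE_coordHom hjπ e hcomp b k hU φ c hcf a ha htop
      (fun i => RegBlow6.coord a k ⟨k.succAbove i, Fin.succAbove_ne k i⟩)
      (fun i => RegBlow6.coord_mul a k ⟨k.succAbove i, Fin.succAbove_ne k i⟩) hnzd
  have hsurjρ : Function.Surjective ρ := by
    rw [hρ]
    exact (ConcreteCategory.bijective_of_isIso R.inv).2.comp (pres_surjective a k)
  have hsurj : Function.Surjective (j.app V) := fun y => by
    obtain ⟨x, hx⟩ := hsurjρ (c.appLE D ⊤ htop y)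
    exact ⟨coordHom q b k x, hbijD.1 hx⟩
  refine ⟨hV, ?_, ?_, ?_⟩
  · haveI : IsAffine (V : P.Opens).toScheme := hV
    haveI : IsAffine (j ⁻¹ᵁ V).toScheme := hDaff
    refine IsClosedImmersion.of_surjective_of_isAffine (j ∣_ V) ?_
    rw [morphismRestrict_appTop]
    refine (ConcreteCategory.bijective_of_isIso
      (X'.presheaf.map (eqToHom (image_morphismRestrict_preimage j V ⊤)).op)).2.comp ?_
    have key : ∀ W : P.Opens, W = V → Function.Surjective (j.app W) := fun W h => by subst h; exact hsurj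
    exact key _ V.ι_image_top
  · exact KoszulFlatLib.isKoszulRegularSeq_of_isExact
      (isExact_ringEquiv (isExact_eqs a k hex) (RingEquiv.ofBijective (coordHom q b k) hψ))
  · have hker : RingHom.ker ρ = Ideal.span (Set.range (eqs a k)) := by
      rw [hρ, RingHom.ker_comp_of_injective _ (ConcreteCategory.bijective_of_isIso R.inv).1, ker_pres a k hex]
    have hlist : Ideal.ofList (List.ofFn fun i => coordHom q b k (eqs a k i)) =
        (Ideal.span (Set.range (eqs a k))).map (coordHom q b k) := by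
      rw [Ideal.map_span, ← Set.range_comp]
      refine congrArg Ideal.span (Set.ext fun x => ?_)
      simp [List.mem_ofFn, Set.mem_range]
    rw [hlist, ← hker]
    show RingHom.ker (j.app V).hom = Ideal.map (coordHom q b k)
      (RingHom.ker ((c.appLE D ⊤ htop).hom.comp ((j.app V).hom.comp (coordHom q b k))))
    rw [RingHom.ker_comp_of_injective _ hbijD.1, ← RingHom.comap_ker, Ideal.map_comap_of_surjective _ hψ.2]

include hcomp in
/-- The chart of the blowing up is the preimage of the chart of the bundle. -/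
theorem chart_data (hb : H23.Frame.IsFrame E b) (hP : KRR.IsProjBundle π E O1 q) (hf : BlowUp.IsBlowUp f J)
    (hU : IsAffineOpen U) (a : Fin (m + 1) → Γ(X, U)) (ha : ∀ i, (show Γ(X, U) from u.app U (b i)) = a i)
    (hJ : J.ideal ⟨U, hU⟩ = Ideal.span (Set.range a)) (hex : WiebeLib.IsExact a) :
    IsAffineOpen (locus q b k) ∧ IsClosedImmersion (j ∣_ locus q b k) ∧
      ∃ rs : List Γ(P, locus q b k), rs.length = m ∧ LCI.IsKoszulRegularSeq Γ(P, locus q b k) rs ∧
        RingHom.ker (j.app (locus q b k)).hom = Ideal.ofList rs := by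
  obtain ⟨hV, hcl, hreg, hker⟩ := chart_data_eqs hjπ e hcomp b k hb hP hf hU a ha hJ hex
  exact ⟨hV, hcl, _, by simp, hreg, hker⟩

/-- The charts of the morphism of a blowing up into the projective bundle. -/
theorem exists_charts {X X' P : Scheme.{u}}
    (E : X.Modules) (hE : FlatMod.IsFinLocFree E) (u : E ⟶ Coh.structureModule X)
    (hu : ∀ x : X, ∃ U : X.affineOpens, x ∈ U.1 ∧
      ∃ (n : ℕ) (b : Module.Basis (Fin n) Γ(X, U.1) (E.val.obj (op U.1))),
        LCI.IsKoszulRegularSeq Γ(X, U.1) (List.ofFn fun k => ((u.val.app (op U.1)).hom (b k) : Γ(X, U.1))))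
    (J : X.IdealSheafData) (hJ : ∀ U : X.affineOpens, J.ideal U = @Ideal.span Γ(X, U.1) _ (Set.range fun s : E.val.obj (op U.1) => ((u.val.app (op U.1)).hom s : Γ(X, U.1))))
    (π : P ⟶ X) (O1 : P.Modules) (q : (Scheme.Modules.pullback π).obj E ⟶ O1) (hP : KRR.IsProjBundle π E O1 q)
    (f : X' ⟶ X) (hf : BlowUp.IsBlowUp f J)
    (j : X' ⟶ P) (hjπ : j ≫ π = f)
    (e : (Scheme.Modules.pullback j).obj O1 ≅ ClSub.idealMod (BlowUp.exceptional f J))
    (hcomp : (Scheme.Modules.pullbackCongr hjπ).inv.app E ≫ (Scheme.Modules.pullbackComp j π).inv.app E ≫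
        (Scheme.Modules.pullback j).map q ≫ e.hom ≫ ClSub.idealModι (BlowUp.exceptional f J) =
      (Scheme.Modules.pullback f).map u ≫
        ((Scheme.Modules.pullbackPushforwardAdjunction f).homEquiv _ _).symm
          (SheafOfModules.unitToPushforwardObjUnit f.toRingCatSheafHom))
    (p : P) :
    ∃ V : P.affineOpens, p ∈ V.1 ∧ IsClosedImmersion (j ∣_ V.1) ∧
      ∃ rs : List Γ(P, V.1), (∀ c, FlatMod.IsFinLocFreeOfRank c E → rs.length = c - 1) ∧
        LCI.IsKoszulRegularSeq Γ(P, V.1) rs ∧ RingHom.ker (j.app V.1).hom = Ideal.ofList rs := by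
  obtain ⟨⟨U, hU⟩, hxU, n, b, hb⟩ := hu (π p)
  let bΓ : Module.Basis (Fin n) Γ(X, U) Γ(E, U) := b
  have hF : H23.Frame.IsFrame E fun i => bΓ i := isFrame_basis hE hU bΓ
  obtain ⟨k, hk⟩ := exists_mem_locus q _ hF hP (p := p) hxU
  obtain ⟨m, rfl⟩ : ∃ m, n = m + 1 := Nat.exists_eq_add_of_le' (Nat.lt_of_le_of_lt (Nat.zero_le _) k.2)
  let a : Fin (m + 1) → Γ(X, U) := fun i => (show Γ(X, U) from u.app U (bΓ i))
  have hJU : J.ideal ⟨U, hU⟩ = Ideal.span (Set.range a) := by
    rw [hJ ⟨U, hU⟩]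
    refine le_antisymm (Ideal.span_le.2 ?_) (Ideal.span_le.2 ?_)
    · rintro _ ⟨x, rfl⟩
      show (show Γ(X, U) from u.app U (show Γ(E, U) from x)) ∈ Ideal.span (Set.range a)
      rw [← bΓ.sum_repr (show Γ(E, U) from x), map_sum]
      refine Ideal.sum_mem _ fun i _ => ?_
      rw [Scheme.Modules.Hom.app_smul]
      exact Ideal.mul_mem_left _ _ (Ideal.subset_span ⟨i, rfl⟩)
    · rintro _ ⟨i, rfl⟩
      exact Ideal.subset_span ⟨bΓ i, rfl⟩
  obtain ⟨hV, hcl, rs, hlen, hreg, hker⟩ := chart_data hjπ e hcomp (fun i => bΓ i) k hF hP hf hU a (fun _ => rfl) hJU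
    (WiebeLib.isExact_of_isKoszulRegularSeq a hb)
  exact ⟨⟨_, hV⟩, hk, hcl, rs, fun c hc => by rw [hlen, ← frame_card hc hxU hF]; omega, hreg, hker⟩

/-- The morphism into the projective bundle is a closed immersion. -/
theorem isClosedImmersion_of_charts {X' P : Scheme.{u}} (j : X' ⟶ P)
    (h : ∀ p : P, ∃ V : P.affineOpens, p ∈ V.1 ∧ IsClosedImmersion (j ∣_ V.1)) : IsClosedImmersion j := by
  choose V hp hV using h
  exact (IsZariskiLocalAtTarget.iff_of_iSup_eq_top (P := @IsClosedImmersion) (fun p => (V p).1)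
    (top_le_iff.1 fun p _ => Opens.mem_iSup.2 ⟨p, hp p⟩)).2 hV

end Groth.Agent.PBlow
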