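import Groth.Agent.PBlow.Sect
import Groth.Prelude.Def_KRR
import Mathlib.AlgebraicGeometry.ResidueField

/-!
# Charts of a projective bundle
-/

set_option autoImplicit false
set_option backward.isDefEq.respectTransparency false
set_option backward.isDefEq.respectTransparency.types false
set_option linter.style.haveILetI false

universe u

open CategoryTheory CategoryTheory.Limits AlgebraicGeometry TopologicalSpace Opposite MvPolynomial

noncomputable section

namespace Groth.Agent.PBlow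

open Groth.Agent.AModX

theorem rank_one_unit (T : Scheme.{u}) : FlatMod.IsFinLocFreeOfRank 1 (Coh.structureModule T) :=
  fun _ => ⟨⊤, trivial, ⟨Scheme.Modules.restrictUnitIso _ ≪≫
    (coproductUniqueIso fun _ : Fin 1 => Coh.structureModule ((⊤ : T.Opens) : Scheme.{u})).symm⟩⟩

theorem exists_frame_rank_one {T : Scheme.{u}} {L : T.Modules} (hL : FlatMod.IsFinLocFreeOfRank 1 L) (x : T) :
    ∃ (W : T.Opens) (_ : x ∈ W) (e : Γ(L, W)), InvX.IsFrame e := by
  obtain ⟨W, hx, ⟨i⟩⟩ := hL x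
  obtain ⟨s, hs⟩ := H23.Frame.exists_frame i
  refine ⟨W, hx, s 0, fun V hV => ?_⟩
  have : (fun r : Γ(T, V) => r • res L hV (s 0)) = H23.Frame.comb L s V hV ∘ (Equiv.funUnique (Fin 1) Γ(T, V)).symm :=
    funext fun r => by
      simp only [Function.comp, H23.Frame.comb, Fin.sum_univ_one]
      rfl
  rw [this]
  exact (hs V hV).comp (Equiv.bijective _)

variable {X P : Scheme.{u}} {π : P ⟶ X} {E : X.Modules} {O1 : P.Modules}
  (q : (Scheme.Modules.pullback π).obj E ⟶ O1) {U : X.Opens} {n : ℕ} (b : Fin n → Γ(E, U))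

/-- The tautological sections. -/
def sig (i : Fin n) : Γ(O1, π ⁻¹ᵁ U) := q.app (π ⁻¹ᵁ U) (InvX.pullElt π (b i))

/-- Where the `k`-th tautological section generates. -/
def locus (k : Fin n) : P.Opens :=
  sSup {W : P.Opens | ∃ hW : W ≤ π ⁻¹ᵁ U, InvX.IsFrame (res O1 hW (sig q b k))}

theorem locus_le (k : Fin n) : locus q b k ≤ π ⁻¹ᵁ U := sSup_le fun _ hW => hW.1

theorem le_locus {k : Fin n} {W : P.Opens} (hW : W ≤ π ⁻¹ᵁ U) (h : InvX.IsFrame (res O1 hW (sig q b k))) :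
    W ≤ locus q b k := le_sSup ⟨hW, h⟩

theorem isFrame_sig (k : Fin n) : InvX.IsFrame (res O1 (locus_le q b k) (sig q b k)) := by
  refine isFrame_of_cover fun p hp => ?_
  obtain ⟨W, ⟨hW, hf⟩, hpW⟩ := Opens.mem_sSup.1 hp
  exact ⟨W, le_locus q b hW hf, hpW, by rw [res_res]; exact hf⟩

/-- The ratios on the chart. -/
def ratio (k i : Fin n) : Γ(P, locus q b k) :=
  ((isFrame_sig q b k).exists_coord le_rfl (res O1 (locus_le q b k) (sig q b i))).choose

theorem ratio_smul (k i : Fin n) :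
    ratio q b k i • res O1 (locus_le q b k) (sig q b k) = res O1 (locus_le q b k) (sig q b i) := by
  have h := ((isFrame_sig q b k).exists_coord le_rfl (res O1 (locus_le q b k) (sig q b i))).choose_spec
  exact (congrArg (ratio q b k i • ·) (res_self _).symm).trans h.symm

theorem ratio_self (k : Fin n) : ratio q b k k = 1 :=
  (isFrame_sig q b k).coord_unique le_rfl (by rw [res_self, ratio_smul, one_smul])

/-- Where a coordinate of a tautological section is invertible, the section generates. -/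
theorem basicOpen_le_locus {k : Fin n} {W : P.Opens} (hW : W ≤ π ⁻¹ᵁ U) {e : Γ(O1, W)} (he : InvX.IsFrame e)
    {g : Γ(P, W)} (hg : res O1 hW (sig q b k) = g • e) : P.basicOpen g ≤ locus q b k := by
  refine le_locus q b ((P.basicOpen_le g).trans hW) ?_
  have := congrArg (res O1 (P.basicOpen_le g)) hg
  rw [res_res, res_smul] at this
  rw [this]
  exact (he.res _).isUnit_smul (isUnit_resR _ _ le_rfl)

variable {T : Scheme.{u}}

/-- The pulled back tautological section as a value of the universal map. -/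
theorem comp_app (h : T ⟶ P) (g : T ⟶ X) (hg : h ≫ π = g) {L : T.Modules}
    (e : (Scheme.Modules.pullback h).obj O1 ≅ L) {W : T.Opens} (hgU : W ≤ g ⁻¹ᵁ U) (hle : W ≤ h ⁻¹ᵁ (π ⁻¹ᵁ U))
    (i : Fin n) :
    ((Scheme.Modules.pullbackCongr hg).inv.app E ≫ (Scheme.Modules.pullbackComp h π).inv.app E ≫
      (Scheme.Modules.pullback h).map q ≫ e.hom).app W (QCoh.pullSec g E hgU (b i)) =
      e.hom.app W (QCoh.pullSec h O1 hle (sig q b i)) := by
  subst hg
  have h0 : ((Scheme.Modules.pullbackCongr (rfl : h ≫ π = h ≫ π)).inv.app E) = 𝟙 _ := by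
    simp [Scheme.Modules.pullbackCongr]
  have h1 := ExistEasy.pullSec_comp h π E (le_refl (π ⁻¹ᵁ U)) hle (b i)
  have h2 : QCoh.pullSec π E (le_refl (π ⁻¹ᵁ U)) (b i) = InvX.pullElt π (b i) :=
    res_self (M := (Scheme.Modules.pullback π).obj E) _
  rw [h2] at h1
  have h3 : ((Scheme.Modules.pullbackComp h π).inv.app E).app W (QCoh.pullSec (h ≫ π) E hgU (b i)) =
      QCoh.pullSec h _ hle (InvX.pullElt π (b i)) := by
    rw [← h1]
    exact congrArg (fun f => Scheme.Modules.Hom.app f W (QCoh.pullSec h _ hle (InvX.pullElt π (b i))))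
      ((Scheme.Modules.pullbackComp h π).hom_inv_id_app E)
  rw [h0, Category.id_comp]
  show e.hom.app W (((Scheme.Modules.pullback h).map q).app W
    (((Scheme.Modules.pullbackComp h π).inv.app E).app W (QCoh.pullSec (h ≫ π) E hgU (b i)))) = _
  rw [h3, ExistEasy.pullSec_natural]
  rfl

variable (hb : H23.Frame.IsFrame E b) (hP : KRR.IsProjBundle π E O1 q)

/-- The values attached to a morphism over `U`. -/
def Rel (h : T ⟶ P) (t : Fin n → Γ(T, ⊤)) : Prop :=
  ∃ (hle : ⊤ ≤ h ⁻¹ᵁ (π ⁻¹ᵁ U)) (e : (Scheme.Modules.pullback h).obj O1 ≅ Coh.structureModule T),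
    ∀ i, e.hom.app ⊤ (QCoh.pullSec h O1 hle (sig q b i)) = t i

theorem epi_of_value {F : T.Modules} (s : F ⟶ Coh.structureModule T) (x : Γ(F, ⊤))
    (h : s.app ⊤ x = (1 : Γ(T, ⊤))) : Epi s := by
  refine ⟨fun {Z} φ ψ hφψ => Scheme.Modules.hom_ext _ _ fun V => ?_⟩
  ext r
  have h1 : φ.app ⊤ (1 : Γ(T, ⊤)) = ψ.app ⊤ (1 : Γ(T, ⊤)) := by
    rw [← h]
    exact congrArg (fun f => Scheme.Modules.Hom.app f ⊤ x) hφψ
  have key : ∀ χ : Coh.structureModule T ⟶ Z, χ.app V r =
      (show Γ(T, V) from r) • res Z le_top (χ.app ⊤ (1 : Γ(T, ⊤))) := fun χ => InvX.app_eq_smul χ _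
  rw [key, key, h1]

include hb hP in
theorem exists_rel (g : T ⟶ X) (hgU : ⊤ ≤ g ⁻¹ᵁ U) (t : Fin n → Γ(T, ⊤)) {k : Fin n} (hk : t k = 1) :
    ∃ h : T ⟶ P, h ≫ π = g ∧ Rel q b h t := by
  obtain ⟨s, hs⟩ := exists_hom g hb hgU t
  haveI : Epi s := epi_of_value s _ ((hs k).trans hk)
  obtain ⟨h, ⟨hg, e, he⟩, -⟩ := hP.univ T g (Coh.structureModule T)
    (rank_one_unit T) s ‹_›
  refine ⟨h, hg, (by subst hg; exact hgU), e, fun i => ?_⟩
  refine Eq.trans ?_ (hs i)
  refine Eq.trans ?_ (congrArg (fun f => Scheme.Modules.Hom.app f ⊤ (QCoh.pullSec g E hgU (b i))) he)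
  exact (comp_app q b h g hg e hgU _ i).symm

include hb hP in
theorem rel_unique (h h' : T ⟶ P) (hh : h ≫ π = h' ≫ π) (t : Fin n → Γ(T, ⊤)) {k : Fin n} (hk : t k = 1)
    (hr : Rel q b h t) (hr' : Rel q b h' t) : h = h' := by
  obtain ⟨hle, e, he⟩ := hr
  obtain ⟨hle', e', he'⟩ := hr'
  obtain ⟨s, hs⟩ := exists_hom (h ≫ π) hb hle t
  haveI : Epi s := epi_of_value s _ ((hs k).trans hk)
  obtain ⟨h₀, -, huniq⟩ := hP.univ T (h ≫ π) (Coh.structureModule T)
    (rank_one_unit T) s ‹_›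
  have key : ∀ (h₁ : T ⟶ P) (hg : h₁ ≫ π = h ≫ π) (hle₁ : ⊤ ≤ h₁ ⁻¹ᵁ (π ⁻¹ᵁ U))
      (e₁ : (Scheme.Modules.pullback h₁).obj O1 ≅ Coh.structureModule T),
      (∀ i, e₁.hom.app ⊤ (QCoh.pullSec h₁ O1 hle₁ (sig q b i)) = t i) → h₁ = h₀ := by
    intro h₁ hg hle₁ e₁ he₁
    refine huniq h₁ ⟨hg, e₁, hom_ext_frame (h ≫ π) hb hle fun i => ?_⟩
    rw [comp_app q b h₁ _ hg e₁ hle hle₁ i, he₁ i, hs i]
  exact (key h rfl hle e he).trans (key h' hh.symm hle' e' he').symm

/-- A morphism into the chart has the values given by the ratios. -/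
theorem rel_of_locus (h : T ⟶ P) {k : Fin n} (hV : ⊤ ≤ h ⁻¹ᵁ locus q b k) :
    Rel q b h fun i => h.appLE (locus q b k) ⊤ hV (ratio q b k i) := by
  refine ⟨hV.trans (h.preimage_mono (locus_le q b k)), ?_⟩
  obtain ⟨e, he⟩ := exists_iso_of_frame (isFrame_pullSec h hV (isFrame_sig q b k))
  refine ⟨e, fun i => ?_⟩
  have h1 : QCoh.pullSec h O1 (hV.trans (h.preimage_mono (locus_le q b k))) (sig q b i) =
      h.appLE (locus q b k) ⊤ hV (ratio q b k i) •
        QCoh.pullSec h O1 hV (res O1 (locus_le q b k) (sig q b k)) := by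
    rw [← QCoh.pullSec_smul, ratio_smul, pullSec_restr]
  rw [h1, Scheme.Modules.Hom.app_smul, he]
  exact mul_one (h.appLE (locus q b k) ⊤ hV (ratio q b k i))

/-- A morphism taking the value one lands in the chart. -/
theorem le_preimage_of_rel (hinv : FlatMod.IsFinLocFreeOfRank 1 O1) (h : T ⟶ P) (t : Fin n → Γ(T, ⊤)) {k : Fin n}
    (hk : t k = 1) (hr : Rel q b h t) : ⊤ ≤ h ⁻¹ᵁ locus q b k := by
  obtain ⟨hle, e, he⟩ := hr
  intro y _
  obtain ⟨W₀, hyW, ε₀, hε₀⟩ := exists_frame_rank_one hinv (h y)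
  let W := W₀ ⊓ π ⁻¹ᵁ U
  have hy : h y ∈ W := ⟨hyW, hle (show y ∈ (⊤ : T.Opens) from trivial)⟩
  let ε := res O1 (inf_le_left : W ≤ W₀) ε₀
  have hε : InvX.IsFrame ε := hε₀.res _
  obtain ⟨g, hg⟩ := hε.exists_coord le_rfl (res O1 (inf_le_right : W ≤ π ⁻¹ᵁ U) (sig q b k))
  rw [res_self] at hg
  let W' : T.Opens := h ⁻¹ᵁ W
  have h1 : (show Γ(T, W') from e.hom.app W' (QCoh.pullSec h O1 le_rfl (res O1 (inf_le_right : W ≤ π ⁻¹ᵁ U) (sig q b k)))) = 1 := by
    rw [pullSec_restr, ← res_pullSec h (le_top : W' ≤ ⊤) hle, app_res, he, hk]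
    exact map_one (resR (le_top : W' ≤ ⊤))
  rw [hg, QCoh.pullSec_smul, Scheme.Modules.Hom.app_smul] at h1
  have hu : IsUnit (h.appLE W W' le_rfl g) := IsUnit.of_mul_eq_one _ h1
  have := T.basicOpen_of_isUnit hu
  rw [Scheme.basicOpen_appLE] at this
  have hyb : y ∈ W' ⊓ h ⁻¹ᵁ P.basicOpen g := by rw [this]; exact hy
  exact basicOpen_le_locus q b inf_le_right hε hg hyb.2

include hb hP in
/-- The charts cover the preimage of `U`. -/
theorem exists_mem_locus {p : P} (hp : p ∈ π ⁻¹ᵁ U) : ∃ k, p ∈ locus q b k := by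
  obtain ⟨W₀, hpW, ε₀, hε₀⟩ := exists_frame_rank_one hP.invertible p
  let W := W₀ ⊓ π ⁻¹ᵁ U
  let ε := res O1 (inf_le_left : W ≤ W₀) ε₀
  have hε : InvX.IsFrame ε := hε₀.res _
  have hc := fun i => hε.exists_coord le_rfl (res O1 (inf_le_right : W ≤ π ⁻¹ᵁ U) (sig q b i))
  choose g hg using hc
  simp only [res_self] at hg
  by_cases H : ∃ i, p ∈ P.basicOpen (g i)
  · obtain ⟨i, hi⟩ := H
    exact ⟨i, basicOpen_le_locus q b inf_le_right hε (hg i) hi⟩
  exfalso
  push Not at H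
  let h := P.fromSpecResidueField p
  let K := Spec (P.residueField p)
  have hW : (⊤ : K.Opens) ≤ h ⁻¹ᵁ W := fun z _ => by
    show P.fromSpecResidueField p z ∈ W
    rw [Scheme.fromSpecResidueField_apply]
    exact ⟨hpW, hp⟩
  obtain ⟨e, he⟩ := exists_iso_of_frame (isFrame_pullSec h hW hε)
  haveI : Epi q := hP.epi
  haveI : (Scheme.Modules.pullback h).IsLeftAdjoint :=
    (Scheme.Modules.pullbackPushforwardAdjunction h).isLeftAdjoint
  let s := (Scheme.Modules.pullbackCongr (rfl : h ≫ π = h ≫ π)).inv.app E ≫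
    (Scheme.Modules.pullbackComp h π).inv.app E ≫ (Scheme.Modules.pullback h).map q ≫ e.hom
  haveI : Epi s := inferInstance
  have hzero : ∀ i, h.appLE W ⊤ hW (g i) = 0 := fun i => by
    by_contra hne
    have hf : IsField Γ(K, ⊤) := (MulEquiv.isField (Field.toIsField (P.residueField p))
      (Scheme.ΓSpecIso (P.residueField p)).commRingCatIsoToRingEquiv.toMulEquiv)
    obtain ⟨c, hc⟩ := hf.mul_inv_cancel hne
    have hu := K.basicOpen_of_isUnit (IsUnit.of_mul_eq_one c hc)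
    rw [Scheme.basicOpen_appLE] at hu
    obtain ⟨z⟩ : Nonempty K := inferInstanceAs (Nonempty (PrimeSpectrum (P.residueField p)))
    have : z ∈ (⊤ : K.Opens) ⊓ h ⁻¹ᵁ P.basicOpen (g i) := by rw [hu]; trivial
    have h2 : P.fromSpecResidueField p z ∈ P.basicOpen (g i) := this.2
    rw [Scheme.fromSpecResidueField_apply] at h2
    exact H i h2
  have hgU : (⊤ : K.Opens) ≤ (h ≫ π) ⁻¹ᵁ U := hW.trans (h.preimage_mono inf_le_right)
  have hs : s = 0 := hom_ext_frame (h ≫ π) hb hgU fun i => by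
    refine (comp_app q b h _ rfl e hgU hgU i).trans ?_
    have h1 : QCoh.pullSec h O1 hgU (sig q b i) = h.appLE W ⊤ hW (g i) • QCoh.pullSec h O1 hW ε := by
      rw [← QCoh.pullSec_smul, ← hg i, pullSec_restr]
    rw [h1, Scheme.Modules.Hom.app_smul, hzero i, zero_smul]
    rfl
  have h01 : (𝟙 (Coh.structureModule K)) = 0 := by rw [← cancel_epi s, hs, zero_comp, zero_comp]
  have h1 : (1 : Γ(K, ⊤)) = 0 :=
    congrArg (fun f : Coh.structureModule K ⟶ Coh.structureModule K =>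
      Scheme.Modules.Hom.app f ⊤ (show Γ(Coh.structureModule K, ⊤) from (1 : Γ(K, ⊤)))) h01
  have : Nontrivial Γ(K, ⊤) := (Scheme.ΓSpecIso (P.residueField p)).commRingCatIsoToRingEquiv.symm.injective.nontrivial
  exact one_ne_zero h1

end Groth.Agent.PBlow
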