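import Groth.Agent.KRegLib.WeakReg
import Groth.Agent.RegBlow6.Algebra

/-!
# The equations of a chart of the blowing up of a Koszul regular sequence
-/

set_option autoImplicit false
set_option backward.isDefEq.respectTransparency false
set_option backward.isDefEq.respectTransparency.types false
set_option linter.style.haveILetI false
set_option maxHeartbeats 400000

universe u

open MvPolynomial Groth.Agent.WiebeLib Groth.Agent.KRegLib

namespace Groth.Agent.PBlow

section cons

variable {R : Type u} [CommRing R] {m : ℕ} {a : R} {g : Fin m → R}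

/-- Removing the head of an exact sequence when the cycles are killed by its powers. -/
theorem isExact_of_cons (h : IsExact (Fin.cons a g : Fin (m + 1) → R))
    (hk : ∀ (k : ℕ) (x : Ko R m (k + 1)), d m g k x = 0 → ∃ N : ℕ, ∃ y, d m g (k + 1) y = a ^ N • x) :
    IsExact g := by
  intro k x hx
  obtain ⟨N, hN⟩ := hk k x hx
  induction N with
  | zero => simpa using hN
  | succ N ih =>
    apply ih
    obtain ⟨y, hy⟩ := hN
    have hg : (fun i : Fin m => (Fin.cons a g : Fin (m + 1) → R) i.succ) = g := funext fun i => by simp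
    let z : Ko R (m + 1) (k + 1 + 1) := Sum.elim (-y) (a ^ N • x)
    have hz : d (m + 1) (Fin.cons a g) (k + 1) z = 0 := by
      refine ko_ext ?_ ?_
      · show d m _ (k + 1) (-y) + (Fin.cons a g : Fin (m + 1) → R) 0 • (a ^ N • x) = 0
        rw [hg, Fin.cons_zero, map_neg, hy, smul_smul, ← pow_succ', neg_add_cancel]
      · show -(d m _ k (a ^ N • x)) = 0
        rw [hg, map_smul, hx, smul_zero, neg_zero]
    obtain ⟨w, hw⟩ := h (k + 1) z hz
    refine ⟨-(sndL m (k + 1 + 1) w), ?_⟩
    have := congrArg (sndL m (k + 1)) hw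
    rw [map_neg]
    refine Eq.trans ?_ this
    simp only [d, snd_pair, LinearMap.neg_apply, LinearMap.coe_comp, Function.comp_apply, hg]

/-- The head of an exact sequence is a nonzerodivisor modulo the tail. -/
theorem mem_span_of_mul_mem (h : IsExact (Fin.cons a g : Fin (m + 1) → R)) {x : R}
    (hx : a * x ∈ Ideal.span (Set.range g)) : x ∈ Ideal.span (Set.range g) := by
  have hg : (fun i : Fin m => (Fin.cons a g : Fin (m + 1) → R) i.succ) = g := funext fun i => by simp
  let x₀ : Ko R m 0 := (base m).symm x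
  have hm : a • x₀ ∈ LinearMap.range (d m g 0) := by
    rw [mem_range_d_zero, map_smul, LinearEquiv.apply_symm_apply, smul_eq_mul]
    exact hx
  obtain ⟨y, hy⟩ := hm
  let z : Ko R (m + 1) (0 + 1) := Sum.elim (-y) x₀
  have hz : d (m + 1) (Fin.cons a g) 0 z = 0 := by
    show d m _ 0 (-y) + (Fin.cons a g : Fin (m + 1) → R) 0 • x₀ = 0
    rw [hg, Fin.cons_zero, map_neg, hy, neg_add_cancel]
  obtain ⟨w, hw⟩ := h 0 z hz
  have h2 : x₀ ∈ LinearMap.range (d m g 0) := by
    refine ⟨-(sndL m 1 w), ?_⟩
    have := congrArg (sndL m 0) hw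
    rw [map_neg]
    refine Eq.trans ?_ this
    simp only [d, snd_pair, LinearMap.neg_apply, LinearMap.coe_comp, Function.comp_apply, hg]
  rw [mem_range_d_zero, LinearEquiv.apply_symm_apply] at h2
  exact h2

end cons

/-- Exactness is transported by isomorphisms of rings. -/
theorem isExact_ringEquiv {R S : Type u} [CommRing R] [CommRing S] {n : ℕ} {f : Fin n → R} (hf : IsExact f)
    (e : R ≃+* S) : IsExact fun i => e (f i) := by
  intro q x hx
  have h := d_map e.symm.toRingHom n (fun i => e (f i)) q x
  rw [show (fun i => e.symm.toRingHom (e (f i))) = f from funext fun i => e.symm_apply_apply _, hx] at h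
  obtain ⟨y, hy⟩ := hf q _ (h.trans (funext fun i => map_zero e.symm.toRingHom))
  refine ⟨fun i => e (y i), ?_⟩
  refine (d_map e.toRingHom n f (q + 1) y).trans ?_
  rw [hy]
  exact funext fun i => e.apply_symm_apply _

variable {A : Type u} [CommRing A] {m : ℕ} (a : Fin (m + 1) → A) (k : Fin (m + 1))

/-- The equations of the chart. -/
noncomputable def eqs (i : Fin m) : MvPolynomial (Fin m) A := C (a k) * X i - C (a (k.succAbove i))

theorem isExact_cons_eqs (ha : IsExact a) :
    IsExact (Fin.cons (C (a k)) (eqs a k) : Fin (m + 1) → MvPolynomial (Fin m) A) := by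
  classical
  let σ : Equiv.Perm (Fin (m + 1)) := (finSuccEquiv' 0).trans (finSuccEquiv' k).symm
  have h1 : IsExact fun i => (C (a (σ i)) : MvPolynomial (Fin m) A) :=
    isExact_map (S := MvPolynomial (Fin m) A) (isExact_comp_equiv ha σ)
  have hσ0 : σ 0 = k := by simp [σ]
  have hσs : ∀ i, σ (Fin.succ i) = k.succAbove i := fun i => by
    simp only [σ, Equiv.trans_apply]
    rw [← Fin.zero_succAbove, finSuccEquiv'_succAbove, finSuccEquiv'_symm_some]
  let T : Matrix (Fin (m + 1)) (Fin (m + 1)) (MvPolynomial (Fin m) A) :=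
    Matrix.of fun i j => Fin.cases (if j = 0 then 1 else 0)
      (fun i' => Fin.cases (X i') (fun j' => if j' = i' then -1 else 0) j) i
  refine isExact_of_isUnit_det h1 T (Matrix.isUnit_det_of_right_inverse (B := T) ?_) fun i => ?_
  · refine Matrix.ext fun i j => ?_
    rw [Matrix.mul_apply, Fin.sum_univ_succ]
    induction i using Fin.cases <;> induction j using Fin.cases <;>
      simp [T, Matrix.one_apply, (Fin.succ_ne_zero _).symm, Fin.succ_ne_zero, Fin.succ_inj, eq_comm, ite_mul]
    all_goals split_ifs <;> simp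
  · rw [Fin.sum_univ_succ]
    induction i using Fin.cases with
    | zero => simp [T, hσ0, Fin.succ_ne_zero]
    | succ i => simp [T, hσs, eqs]; ring

/-- Away from the `k`-th element the equations are translated coordinates. -/
theorem isExact_eqs_of_isUnit {B : Type u} [CommRing B] (u : B) (hu : IsUnit u) (c : Fin m → B) :
    IsExact fun i : Fin m => (C u * X i - C (c i) : MvPolynomial (Fin m) B) := by
  classical
  obtain ⟨u, rfl⟩ := hu
  let τ : MvPolynomial (Fin m) B →ₐ[B] MvPolynomial (Fin m) B :=
    aeval fun i => X i - C ((↑u⁻¹ : B) * c i)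
  let τ' : MvPolynomial (Fin m) B →ₐ[B] MvPolynomial (Fin m) B :=
    aeval fun i => X i + C ((↑u⁻¹ : B) * c i)
  let e : MvPolynomial (Fin m) B ≃ₐ[B] MvPolynomial (Fin m) B := AlgEquiv.ofAlgHom τ τ'
    (algHom_ext fun i => by simp [τ, τ']) (algHom_ext fun i => by simp [τ, τ'])
  have h1 : IsExact fun i : Fin m => e (X i) := isExact_ringEquiv (isExact_X m) e.toRingEquiv
  refine isExact_of_isUnit_det h1 (Matrix.diagonal fun _ => C (↑u⁻¹ : B)) ?_ fun i => ?_
  · rw [Matrix.det_diagonal]
    exact IsUnit.prod_iff.2 fun _ _ => (Units.isUnit _).map C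
  · rw [Finset.sum_eq_single i (fun j _ hj => by rw [Matrix.diagonal_apply_ne _ hj.symm, zero_mul])
      (by simp), Matrix.diagonal_apply_eq]
    show τ (X i) = _
    rw [aeval_X, mul_sub, ← mul_assoc, ← C_mul, Units.inv_mul, C_1, one_mul, ← C_mul]

/-- The equations of a chart of a Koszul regular sequence form a Koszul regular sequence. -/
theorem isExact_eqs (ha : IsExact a) : IsExact (eqs a k) := by
  classical
  refine isExact_of_cons (isExact_cons_eqs a k ha) fun q x hx => ?_
  let A' := Localization.Away (a k)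
  letI : Algebra (MvPolynomial (Fin m) A) (MvPolynomial (Fin m) A') := algebraMvPolynomial
  let φ := algebraMap (MvPolynomial (Fin m) A) (MvPolynomial (Fin m) A')
  have hg : (fun i => φ (eqs a k i)) = fun i => C (algebraMap A A' (a k)) * X i -
      C (algebraMap A A' (a (k.succAbove i))) := funext fun i => by
    show MvPolynomial.map (algebraMap A A') (eqs a k i) = _
    simp [eqs]
  have hex := isExact_eqs_of_isUnit (algebraMap A A' (a k)) (IsLocalization.Away.algebraMap_isUnit _)
    fun i => algebraMap A A' (a (k.succAbove i))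
  obtain ⟨y', hy'⟩ := hex q (fun i => φ (x i)) (by
    rw [← hg, d_map φ, hx]; exact funext fun i => map_zero φ)
  rw [← hg] at hy'
  obtain ⟨b, hb⟩ := IsLocalization.exist_integer_multiples_of_finite
    ((Submonoid.powers (a k)).map (C : A →+* MvPolynomial (Fin m) A)) y'
  choose y hy using hb
  obtain ⟨_, ⟨N, rfl⟩, hN⟩ := b.2
  have hN : (C (a k) : MvPolynomial (Fin m) A) ^ N = b.1 := by rw [← map_pow]; exact hN
  have hd : (fun i => φ (d m (eqs a k) (q + 1) y i)) = fun i => φ (C (a k) ^ N) * φ (x i) := by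
    rw [← d_map φ]
    have : (fun i => φ (y i)) = φ b.1 • y' := funext fun i => (hy i).trans (Algebra.smul_def _ _)
    rw [this, map_smul, hy', hN]
    rfl
  have hz : ∀ i, ∃ M : ℕ, C (a k) ^ M * (d m (eqs a k) (q + 1) y i - C (a k) ^ N * x i) = 0 := fun i => by
    obtain ⟨⟨_, _, ⟨M, rfl⟩, rfl⟩, hM⟩ := (IsLocalization.map_eq_zero_iff
      ((Submonoid.powers (a k)).map (C : A →+* MvPolynomial (Fin m) A)) (MvPolynomial (Fin m) A') _).1
      (show φ (d m (eqs a k) (q + 1) y i - C (a k) ^ N * x i) = 0 by
        rw [map_sub, map_mul, congrFun hd i, sub_self])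
    exact ⟨M, by rw [← map_pow]; exact hM⟩
  choose M hM using hz
  refine ⟨Finset.univ.sup M + N, (C (a k) : MvPolynomial (Fin m) A) ^ Finset.univ.sup M • y, ?_⟩
  rw [map_smul]
  funext i
  obtain ⟨D, hD⟩ := Nat.exists_eq_add_of_le (Finset.le_sup (f := M) (Finset.mem_univ i))
  simp only [Pi.smul_apply, smul_eq_mul]
  have h := congrArg (C (a k) ^ D * ·) (hM i)
  simp only [mul_zero, ← mul_assoc, ← pow_add, add_comm D, ← hD] at h
  rw [mul_sub, ← mul_assoc, ← pow_add, sub_eq_zero] at h
  exact h

/-- The presentation of the chart by `m` variables. -/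
noncomputable def pres : MvPolynomial (Fin m) A →ₐ[A] RegBlow6.chartAlg a k :=
  aeval fun i => RegBlow6.coord a k ⟨k.succAbove i, Fin.succAbove_ne k i⟩

theorem pres_surjective : Function.Surjective (pres a k) := fun z => by
  obtain ⟨p, hp⟩ := RegBlow6.pres_surjective a k z
  have hj : ∀ j : {j // j ≠ k}, ∃ i, k.succAbove i = j.1 := fun j => Fin.exists_succAbove_eq j.2
  choose i hi using hj
  refine ⟨rename i p, ?_⟩
  rw [pres, aeval_rename, ← hp]
  exact congrArg (fun f => aeval f p) (funext fun j => congrArg (RegBlow6.coord a k) (Subtype.ext (hi j)))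

/-- The kernel of the presentation. -/
theorem ker_pres (ha : IsExact a) :
    RingHom.ker (pres a k).toRingHom = Ideal.span (Set.range (eqs a k)) := by
  classical
  refine le_antisymm (fun p hp => ?_) (Ideal.span_le.2 ?_)
  swap
  · rintro _ ⟨i, rfl⟩
    rw [SetLike.mem_coe, RingHom.mem_ker]
    show pres a k (eqs a k i) = 0
    rw [eqs, map_sub, map_mul, pres, aeval_C, aeval_X, aeval_C, mul_comm, RegBlow6.coord_mul, sub_self]
  let A' := Localization.Away (a k)
  let c : Fin m → A' := fun i => (RegBlow6.chartAlg a k).val (RegBlow6.coord a k ⟨k.succAbove i, Fin.succAbove_ne k i⟩)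
  have hp' : pres a k p = 0 := RingHom.mem_ker.1 hp
  have h0 : aeval c p = 0 := by
    rw [pres] at hp'
    have := congrArg (RegBlow6.chartAlg a k).val hp'
    rw [map_zero, MvPolynomial.comp_aeval_apply] at this
    exact this
  have key : ∀ p : MvPolynomial (Fin m) A, ∃ (N : ℕ) (r : A),
      C (a k) ^ N * p - C r ∈ Ideal.span (Set.range (eqs a k)) := by
    intro p
    induction p using MvPolynomial.induction_on with
    | C r => exact ⟨0, r, by simp⟩
    | add p q hp hq =>
      obtain ⟨N, r, h1⟩ := hp
      obtain ⟨M, s, h2⟩ := hq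
      refine ⟨N + M, a k ^ M * r + a k ^ N * s, ?_⟩
      have := add_mem (Ideal.mul_mem_left _ (C (a k) ^ M) h1) (Ideal.mul_mem_left _ (C (a k) ^ N) h2)
      convert this using 1
      simp only [map_add, map_mul, map_pow]
      ring
    | mul_X p i hp =>
      obtain ⟨N, r, h1⟩ := hp
      refine ⟨N + 1, r * a (k.succAbove i), ?_⟩
      have := add_mem (Ideal.mul_mem_left _ (C (a k) * X i) h1)
        (Ideal.mul_mem_left _ (C r) (Ideal.subset_span ⟨i, rfl⟩ : eqs a k i ∈ Ideal.span (Set.range (eqs a k))))
      convert this using 1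
      simp only [eqs, map_mul]
      ring
  obtain ⟨N, r, hr⟩ := key p
  have hv : ∀ q ∈ Ideal.span (Set.range (eqs a k)), aeval c q = 0 := fun q hq => by
    refine (Ideal.span_le.2 ?_ : Ideal.span _ ≤ RingHom.ker (aeval c)) hq
    rintro _ ⟨i, rfl⟩
    rw [SetLike.mem_coe, RingHom.mem_ker, eqs, map_sub, map_mul, aeval_C, aeval_X, aeval_C, mul_comm, sub_eq_zero]
    have hh := congrArg (RegBlow6.chartAlg a k).val
      (RegBlow6.coord_mul a k ⟨k.succAbove i, Fin.succAbove_ne k i⟩)
    rw [map_mul, AlgHom.commutes, AlgHom.commutes] at hh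
    exact hh
  have hr0 : algebraMap A A' r = 0 := by
    have := hv _ hr
    rwa [map_sub, map_mul, h0, mul_zero, aeval_C, zero_sub, neg_eq_zero] at this
  obtain ⟨⟨_, M, rfl⟩, hM⟩ := (IsLocalization.map_eq_zero_iff (Submonoid.powers (a k)) A' r).1 hr0
  have h2 : C (a k) ^ (M + N) * p ∈ Ideal.span (Set.range (eqs a k)) := by
    have := Ideal.mul_mem_left _ (C (a k) ^ M) hr
    have hz : (C (a k) : MvPolynomial (Fin m) A) ^ M * C r = 0 := by
      rw [← map_pow, ← map_mul]; exact (congrArg C hM).trans (map_zero _)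
    rwa [mul_sub, hz, sub_zero, ← mul_assoc, ← pow_add] at this
  generalize M + N = L at h2
  induction L with
  | zero => simpa using h2
  | succ L ih =>
    exact ih (mem_span_of_mul_mem (isExact_cons_eqs a k ha) (by rwa [← mul_assoc, ← pow_succ']))

end Groth.Agent.PBlow
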