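import Groth.Agent.PBlow.Main
import Groth.Agent.PinchPO7.FrameLemmas
import Groth.Agent.RegConormal.Free
import Groth.Agent.KRegLib.Kinds
import Groth.Agent.KRegLib.FFDescent
import Groth.Agent.PPSheaf.Gr
import Groth.Agent.Synt29.KoszulSyntomic
import Groth.Agent.QCoh.DevissageSum
import Groth.Agent.ExistEasy.PP.PullSec
import Groth.Agent.QCoh.ClosedPush

/-!
# The conormal sheaf of a blowing up inside the projective bundle
-/

set_option autoImplicit false
set_option backward.isDefEq.respectTransparency false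
set_option backward.isDefEq.respectTransparency.types false
set_option linter.style.haveILetI false

universe u

open CategoryTheory CategoryTheory.Limits AlgebraicGeometry TopologicalSpace Opposite

noncomputable section

namespace Groth.Agent.PBlow

open Groth.Agent.AModX Groth.Agent.H23

section general

variable {X : Scheme.{u}} {M N : X.Modules}

theorem bijective_of_frames (φ : M ⟶ N) {U : X.Opens} {n : ℕ} {s : Fin n → Γ(M, U)} (hs : Frame.IsFrame M s)
    (hs' : Frame.IsFrame N fun i => φ.app U (s i)) {W : X.Opens} (h : W ≤ U) : Function.Bijective (φ.app W) := by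
  have e : Frame.comb N (fun i => φ.app U (s i)) W h = φ.app W ∘ Frame.comb M s W h :=
    funext fun c => (PinchPO7.app_comb φ s h c).symm
  exact (Function.Bijective.of_comp_iff _ (hs W h)).1 (e ▸ hs' W h)

theorem hom_ext_cover {φ ψ : M ⟶ N}
    (h : ∀ x : X, ∃ (V : X.Opens) (n : ℕ) (s : Fin n → Γ(M, V)),
      x ∈ V ∧ Frame.IsFrame M s ∧ ∀ i, φ.app V (s i) = ψ.app V (s i)) : φ = ψ := by
  refine Scheme.Modules.hom_ext _ _ fun W => ?_
  ext x
  refine eq_of_locally _ _ fun p hp => ?_
  obtain ⟨V, n, s, hpV, hs, heq⟩ := h p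
  refine ⟨W ⊓ V, inf_le_left, ⟨hp, hpV⟩, ?_⟩
  obtain ⟨c, hc⟩ := (hs (W ⊓ V) inf_le_right).2 (res M inf_le_left x)
  rw [← app_res, ← app_res, ← hc, PinchPO7.app_comb, PinchPO7.app_comb]
  simp only [heq]

/-- The kernel of a map onto an invertible module which sends one member of a frame to a generator. -/
theorem isFrame_kernel {L : X.Modules} (q : M ⟶ L) {V : X.Opens} {m : ℕ} (β : Fin (m + 1) → Γ(M, V))
    (hβ : Frame.IsFrame M β) (k : Fin (m + 1)) (r : Fin m → Γ(X, V)) (hσ : InvX.IsFrame (q.app V (β k)))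
    (hr : ∀ i, q.app V (β (k.succAbove i)) = r i • q.app V (β k)) (κ : Fin m → Γ(kernel q, V))
    (hκ : ∀ i, (kernel.ι q).app V (κ i) = β (k.succAbove i) - r i • β k) : Frame.IsFrame (kernel q) κ := by
  intro W hW
  let ins : (Fin m → Γ(X, W)) → Fin (m + 1) → Γ(X, W) := fun c =>
    Fin.insertNth (α := fun _ => Γ(X, W)) k (-∑ i, c i * resR hW (r i)) c
  have hik : ∀ c, ins c k = -∑ i, c i * resR hW (r i) := fun c => Fin.insertNth_apply_same ..
  have his : ∀ c i, ins c (k.succAbove i) = c i := fun c i => Fin.insertNth_apply_succAbove ..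
  have hid : ∀ c, (kernel.ι q).app W (Frame.comb (kernel q) κ W hW c) = Frame.comb M β W hW (ins c) := by
    intro c
    rw [PinchPO7.app_comb]
    show ∑ i, c i • res M hW ((kernel.ι q).app V (κ i)) = ∑ i, ins c i • res M hW (β i)
    rw [Fin.sum_univ_succAbove _ k, hik]
    simp only [his, hκ, map_sub, res_smul, smul_sub, ← mul_smul, Finset.sum_sub_distrib, neg_smul, Finset.sum_smul]
    abel
  refine ⟨fun c c' h => ?_, fun x => ?_⟩
  · have h1 := congrArg ((kernel.ι q).app W) h
    rw [hid, hid] at h1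
    have h2 := (hβ W hW).1 h1
    funext i
    rw [← his c i, ← his c' i, h2]
  · obtain ⟨e, he⟩ := (hβ W hW).2 ((kernel.ι q).app W x)
    have h0 : q.app W ((kernel.ι q).app W x) = 0 :=
      congrArg (fun φ : kernel q ⟶ L => φ.app W x) (kernel.condition q)
    rw [← he, PinchPO7.app_comb] at h0
    change ∑ i, e i • res L hW (q.app V (β i)) = 0 at h0
    rw [Fin.sum_univ_succAbove _ k] at h0
    simp only [hr, res_smul, ← mul_smul, ← Finset.sum_smul, ← add_smul] at h0
    have h1 : e k + ∑ i, e (k.succAbove i) * resR hW (r i) = 0 :=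
      hσ.coord_unique hW (by rw [zero_smul]; exact h0)
    refine ⟨fun i => e (k.succAbove i), QCoh.app_injective (kernel.ι q) W ?_⟩
    rw [hid, ← he]
    refine congrArg (Frame.comb M β W hW) (funext fun i => ?_)
    rcases Fin.eq_self_or_eq_succAbove k i with rfl | ⟨j, rfl⟩
    · rw [hik, eq_neg_of_add_eq_zero_left h1]
    · rw [his]

end general

variable {X X' P : Scheme.{u}} {E : X.Modules} {u : E ⟶ Coh.structureModule X} {J : X.IdealSheafData}
  {π : P ⟶ X} {O1 : P.Modules} {q : (Scheme.Modules.pullback π).obj E ⟶ O1}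
  {f : X' ⟶ X} {j : X' ⟶ P} (hjπ : j ≫ π = f)
  (e : (Scheme.Modules.pullback j).obj O1 ≅ ClSub.idealMod (BlowUp.exceptional f J))
  (hcomp : (Scheme.Modules.pullbackCongr hjπ).inv.app E ≫ (Scheme.Modules.pullbackComp j π).inv.app E ≫
      (Scheme.Modules.pullback j).map q ≫ e.hom ≫ ClSub.idealModι (BlowUp.exceptional f J) =
    (Scheme.Modules.pullback f).map u ≫
      ((Scheme.Modules.pullbackPushforwardAdjunction f).homEquiv _ _).symm
        (SheafOfModules.unitToPushforwardObjUnit f.toRingCatSheafHom))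

variable (q u) in
/-- The function attached to a section of the kernel. -/
def kerVal : kernel q ⟶ Coh.structureModule P :=
  kernel.ι q ≫ (Scheme.Modules.pullback π).map u ≫
    ((Scheme.Modules.pullbackPushforwardAdjunction π).homEquiv _ _).symm
      (SheafOfModules.unitToPushforwardObjUnit π.toRingCatSheafHom)

variable {U : X.Opens} {m : ℕ} (b : Fin (m + 1) → Γ(E, U)) (k : Fin (m + 1))
  (a : Fin (m + 1) → Γ(X, U)) (ha : ∀ i, (show Γ(X, U) from u.app U (b i)) = a i)

include ha in
theorem pullVal (i : Fin (m + 1)) :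
    (show Γ(P, locus q b k) from ((Scheme.Modules.pullback π).map u ≫
      ((Scheme.Modules.pullbackPushforwardAdjunction π).homEquiv _ _).symm
        (SheafOfModules.unitToPushforwardObjUnit π.toRingCatSheafHom)).app (locus q b k)
          (res _ (locus_le q b k) (InvX.pullElt π (b i)))) =
      π.appLE U (locus q b k) (locus_le q b k) (a i) := by
  let χ := ((Scheme.Modules.pullbackPushforwardAdjunction π).homEquiv _ _).symm
      (SheafOfModules.unitToPushforwardObjUnit π.toRingCatSheafHom)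
  have hχ : χ.app (π ⁻¹ᵁ U) (InvX.pullElt π (u.app U (b i))) =
      π.app U (show Γ(X, U) from u.app U (b i)) :=
    congrArg (fun φ => Scheme.Modules.Hom.app φ U (u.app U (b i))) (Equiv.apply_symm_apply
      ((Scheme.Modules.pullbackPushforwardAdjunction π).homEquiv _ _)
      (SheafOfModules.unitToPushforwardObjUnit π.toRingCatSheafHom))
  rw [← ha]
  refine (app_res ((Scheme.Modules.pullback π).map u ≫ χ) (locus_le q b k) (InvX.pullElt π (b i))).trans ?_
  refine congrArg (resR (locus_le q b k)) (Eq.trans ?_ hχ)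
  exact congrArg (χ.app (π ⁻¹ᵁ U)) (PinchPO7.unitSec_natural π u (b i))

variable (hb : H23.Frame.IsFrame E b)

include hb ha in
/-- The kernel has a frame on the chart whose values are the equations. -/
theorem exists_frame_kernel : ∃ κ : Fin m → Γ(kernel q, locus q b k), Frame.IsFrame (kernel q) κ ∧
    (∀ i, (show Γ(P, locus q b k) from (kerVal u q).app (locus q b k) (κ i)) = -coordHom q b k (eqs a k i)) ∧
    ∀ i, (kernel.ι q).app (locus q b k) (κ i) = res _ (locus_le q b k) (InvX.pullElt π (b (k.succAbove i))) -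
      ratio q b k (k.succAbove i) • res _ (locus_le q b k) (InvX.pullElt π (b k)) := by
  let M := (Scheme.Modules.pullback π).obj E
  let β : Fin (m + 1) → Γ(M, locus q b k) := fun i => res M (locus_le q b k) (InvX.pullElt π (b i))
  have hσ : ∀ i, q.app (locus q b k) (β i) = res O1 (locus_le q b k) (sig q b i) := fun i => app_res q _ _
  have hr : ∀ i, q.app _ (β (k.succAbove i)) = ratio q b k (k.succAbove i) • q.app _ (β k) := fun i => by
    rw [hσ, hσ]
    exact (ratio_smul q b k _).symm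
  choose κ hκ using fun i => QCoh.exists_kernel_lift q (locus q b k)
    (β (k.succAbove i) - ratio q b k (k.succAbove i) • β k) (by
      rw [map_sub, Scheme.Modules.Hom.app_smul, hr, sub_self])
  refine ⟨κ, isFrame_kernel q β ((PinchPO7.isFrame_unitSec hb π).res (locus_le q b k)) k
    (fun i => ratio q b k (k.succAbove i)) (by rw [hσ]; exact isFrame_sig q b k) hr κ hκ, fun i => ?_, hκ⟩
  let w := (Scheme.Modules.pullback π).map u ≫
    ((Scheme.Modules.pullbackPushforwardAdjunction π).homEquiv _ _).symm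
      (SheafOfModules.unitToPushforwardObjUnit π.toRingCatSheafHom)
  show (show Γ(P, locus q b k) from w.app _ ((kernel.ι q).app _ (κ i))) = _
  rw [hκ, map_sub, Scheme.Modules.Hom.app_smul]
  show (show Γ(P, locus q b k) from w.app _ (β (k.succAbove i))) -
    ratio q b k (k.succAbove i) * (show Γ(P, locus q b k) from w.app _ (β k)) = _
  rw [pullVal b k a ha, pullVal b k a ha]
  simp only [eqs, map_sub, map_mul, coordHom_C, coordHom_X]
  ring

variable (hP : KRR.IsProjBundle π E O1 q) (hf : BlowUp.IsBlowUp f J) (hU : IsAffineOpen U)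
  (hJ : J.ideal ⟨U, hU⟩ = Ideal.span (Set.range a)) (hex : WiebeLib.IsExact a)

include hcomp ha hb hP hf hJ hex in
/-- On the chart the values of the frame are in the ideal of the morphism. -/
theorem kerVal_toSubscheme [QuasiCompact j] :
    ∃ κ : Fin m → Γ(kernel q, locus q b k), Frame.IsFrame (kernel q) κ ∧
      ∀ i, (kerVal u q ≫ ClSub.toSubscheme j.ker).app (locus q b k) (κ i) =
        (0 : kernel q ⟶ ClSub.quotMod j.ker).app (locus q b k) (κ i) := by
  obtain ⟨κ, hκf, hκv, -⟩ := exists_frame_kernel (q := q) b k a ha hb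
  obtain ⟨-, -, -, hker⟩ := chart_data_eqs hjπ e hcomp b k hb hP hf hU a ha hJ hex
  refine ⟨κ, hκf, fun i => ?_⟩
  have hmem : (show Γ(P, locus q b k) from (kerVal u q).app (locus q b k) (κ i)) ∈
      RingHom.ker (j.app (locus q b k)).hom := by
    rw [hκv, neg_mem_iff, hker]
    exact Ideal.subset_span (List.mem_ofFn.2 ⟨i, rfl⟩)
  obtain ⟨s, hs⟩ := OmegaUniv.exists_idealSect_of_app_eq_zero j (locus q b k) _ hmem
  show (ClSub.toSubscheme j.ker).app _ ((kerVal u q).app _ (κ i)) = 0
  rw [show (kerVal u q).app (locus q b k) (κ i) = (ClSub.idealModι j.ker).app (locus q b k) s from hs.symm]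
  exact congrArg (fun φ : ClSub.idealMod j.ker ⟶ _ => φ.app (locus q b k) s) (kernel.condition _)

variable [IsClosedImmersion j]
  (t : kernel q ⟶ ClSub.idealMod j.ker) (ht : t ≫ ClSub.idealModι j.ker = kerVal u q)
  (φ : (Scheme.Modules.pullback j).obj (kernel q) ⟶ kernel ((Scheme.Modules.pullback j).map q))
  (hφ : φ ≫ kernel.ι _ = (Scheme.Modules.pullback j).map (kernel.ι q))

include hcomp ha hb hP hf hJ hex ht hφ in
/-- Both comparison maps are bijective inside the preimage of a chart. -/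
theorem bijective_compare {W : X'.Opens} (hW : W ≤ j ⁻¹ᵁ locus q b k) :
    Function.Bijective (((Scheme.Modules.pullback j).map t).app W) ∧ Function.Bijective (φ.app W) := by
  obtain ⟨κ, hκf, hκv, hκι⟩ := exists_frame_kernel (q := q) b k a ha hb
  obtain ⟨hV, hcl, hreg, hker⟩ := chart_data_eqs hjπ e hcomp b k hb hP hf hU a ha hJ hex
  let V := locus q b k
  let g : Fin m → Γ(P, V) := fun i => coordHom q b k (eqs a k i)
  have hκ' := PinchPO7.isFrame_unitSec hκf j
  constructor
  · let I := ClSub.idealMod j.ker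
    have hsect : ∀ i, OmegaSh.idealSect j.ker V (t.app V (κ i)) = -g i := fun i => by
      rw [← hκv i]
      exact congrArg (fun ψ : kernel q ⟶ Coh.structureModule P => (show Γ(P, V) from ψ.app V (κ i))) ht
    refine bijective_of_frames _ hκ' ?_ hW
    have hval : ∀ i, ((Scheme.Modules.pullback j).map t).app (j ⁻¹ᵁ V) (PinchPO7.unitSec j _ (κ i)) =
        PinchPO7.unitSec j I (t.app V (κ i)) := fun i => PinchPO7.unitSec_natural j t (κ i)
    refine Eq.mpr (congrArg (Frame.IsFrame ((Scheme.Modules.pullback j).obj I)) (funext hval)) ?_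
    let rs := List.ofFn g
    have hlen : rs.length = m := List.length_ofFn
    obtain ⟨g₀, hg₀⟩ := RegConormal.exists_freeIso_conormal j ⟨V, hV⟩ hcl rs hker fun y hy c hc l => by
      letI : Algebra Γ(P, V) (P.presheaf.stalk (j y)) := (P.presheaf.germ V (j y) hy).hom.toAlgebra
      haveI : IsLocalization.AtPrime (P.presheaf.stalk (j y)) (hV.primeIdealOf ⟨j y, hy⟩).asIdeal :=
        hV.isLocalization_stalk ⟨j y, hy⟩
      have hh1 := RegConormal.isH1Regular_localization (B := P.presheaf.stalk (j y))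
        (hV.primeIdealOf ⟨j y, hy⟩).asIdeal.primeCompl rs.get (KRegLib.h1_of_koszul rs hreg)
      have hK : RingHom.ker (j.stalkMap y).hom =
          Ideal.span (Set.range fun l => algebraMap Γ(P, V) (P.presheaf.stalk (j y)) (rs.get l)) := by
        rw [RegConormal.ker_stalkMap_eq_map j y ⟨V, hV⟩ hy hcl, hker,
          show Ideal.ofList rs = Ideal.span (Set.range rs.get) from congrArg Ideal.span (Set.range_list_get rs).symm,
          Ideal.map_span, ← Set.range_comp]
        rfl
      rw [hK] at hc ⊢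
      exact RegConormal.coeff_mem_of_h1 _ hh1 c hc l
    have iso : (Omega.conormal j).restrict (j ⁻¹ᵁ V).ι ≅ FlatMod.freeMod ((j ⁻¹ᵁ V : X'.Opens) : Scheme.{u}) rs.length :=
      (asIso g₀).symm ≪≫ QCoh.freeModRestrict (j ⁻¹ᵁ V).ι rs.length
    rw [hlen] at iso
    obtain ⟨s', hs'⟩ := Frame.exists_frame iso
    refine PinchPO7.isFrame_of_span hs' fun l => ?_
    obtain ⟨hD, hsurj⟩ := @Synt29.surjective_app_of_isClosedImmersion_restrict _ _ j V hV hcl
    obtain ⟨x, hx⟩ := ExistEasy.surjective_pullSec j (PPSheaf.isQCoh_idealMod j.ker) hD hV le_rfl (fun c => by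
      obtain ⟨d, hd⟩ := hsurj c
      exact ⟨d, fun y => by rw [← hd, Scheme.Hom.app_eq_appLE]⟩) (s' l)
    have hxm : OmegaSh.idealSect j.ker V x ∈ Ideal.span (Set.range g) := by
      have h1 := OmegaLib.idealSect_mem j.ker ⟨V, hV⟩ x
      rw [Scheme.Hom.ker_apply, hker] at h1
      have h2 : Ideal.ofList rs = Ideal.span (Set.range g) :=
        congrArg Ideal.span (Set.ext fun y => by simp [rs, List.mem_ofFn, Set.mem_range, g])
      exact h2 ▸ h1
    obtain ⟨d, hd⟩ := Ideal.mem_span_range_iff_exists_fun.1 hxm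
    refine ⟨fun i => j.app V (-d i), ?_⟩
    have hxc : x = Frame.comb I (fun i => t.app V (κ i)) V le_rfl fun i => -d i := by
      apply OmegaLib.idealSect_injective j.ker V
      rw [← hd, Frame.comb, map_sum]
      refine Finset.sum_congr rfl fun i _ => ?_
      rw [OmegaLib.idealSect_smul]
      exact (neg_mul_neg (d i) (g i)).symm.trans
        (congrArg (-d i * ·) ((hsect i).symm.trans (congrArg _ (res_self _).symm)))
    rw [← hx, hxc]
    refine Eq.trans ?_ (res_self _).symm
    exact (PinchPO7.unitSec_comb j I _ le_rfl _).symm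
  · refine bijective_of_frames φ hκ' ?_ hW
    let M := (Scheme.Modules.pullback π).obj E
    let M' := (Scheme.Modules.pullback j).obj M
    let L' := (Scheme.Modules.pullback j).obj O1
    let β : Fin (m + 1) → Γ(M, V) := fun i => res M (locus_le q b k) (InvX.pullElt π (b i))
    have hσ : ∀ i, ((Scheme.Modules.pullback j).map q).app (j ⁻¹ᵁ V) (PinchPO7.unitSec j M (β i)) =
        PinchPO7.unitSec j O1 (res O1 (locus_le q b k) (sig q b i)) := fun i =>
      (PinchPO7.unitSec_natural j q (β i)).trans (congrArg _ (app_res q _ _))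
    refine isFrame_kernel ((Scheme.Modules.pullback j).map q) (fun i => PinchPO7.unitSec j M (β i))
      (PinchPO7.isFrame_unitSec ((PinchPO7.isFrame_unitSec hb π).res (locus_le q b k)) j) k
      (fun i => j.app V (ratio q b k (k.succAbove i))) ?_ (fun i => ?_) _ fun i => ?_
    · rw [hσ]
      exact InvX.isFrame_pullElt j (isFrame_sig q b k)
    · rw [hσ, hσ, ← ratio_smul q b k (k.succAbove i)]
      exact PinchPO7.unitSec_smul j O1 _ _
    · show (φ ≫ kernel.ι _).app _ (PinchPO7.unitSec j _ (κ i)) = _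
      rw [hφ, PinchPO7.unitSec_natural, hκι i, ← PinchPO7.unitSec_smul j M]
      exact map_sub (((Scheme.Modules.pullbackPushforwardAdjunction j).unit.app M).app V).hom _ _

omit [IsClosedImmersion j] in
/-- Around each point a frame with exact values. -/
theorem exists_exact_frame {u : E ⟶ Coh.structureModule X} (hE : FlatMod.IsFinLocFree E)
    (hJ : ∀ U : X.affineOpens, J.ideal U = @Ideal.span Γ(X, U.1) _
      (Set.range fun s : E.val.obj (op U.1) => ((u.val.app (op U.1)).hom s : Γ(X, U.1))))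
    (hu : ∀ y : X, y ∈ J.support → ∃ U : X.affineOpens, y ∈ U.1 ∧
      ∃ (n : ℕ) (b : Module.Basis (Fin n) Γ(X, U.1) (E.val.obj (op U.1))),
        RegImm.Kind.Seq RegImm.Kind.regular Γ(X, U.1)
          (List.ofFn fun k => ((u.val.app (op U.1)).hom (b k) : Γ(X, U.1)))) (x : X) :
    ∃ (U : X.Opens) (hU : IsAffineOpen U) (n : ℕ) (b : Fin n → Γ(E, U)), x ∈ U ∧ Frame.IsFrame E b ∧
      J.ideal ⟨U, hU⟩ = Ideal.span (Set.range fun i => (show Γ(X, U) from u.app U (b i))) ∧
      WiebeLib.IsExact fun i => (show Γ(X, U) from u.app U (b i)) := by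
  have hspan : ∀ (U : X.Opens) (hU : IsAffineOpen U) (n : ℕ) (b : Fin n → Γ(E, U)), Frame.IsFrame E b →
      J.ideal ⟨U, hU⟩ = Ideal.span (Set.range fun i => (show Γ(X, U) from u.app U (b i))) := by
    intro U hU n b hb
    rw [hJ ⟨U, hU⟩]
    refine le_antisymm (Ideal.span_le.2 ?_) (Ideal.span_le.2 ?_)
    · rintro _ ⟨y, rfl⟩
      obtain ⟨c, hc⟩ := (hb U le_rfl).2 (show Γ(E, U) from y)
      show (show Γ(X, U) from u.app U (show Γ(E, U) from y)) ∈ _
      rw [← hc, PinchPO7.app_comb]
      refine Ideal.sum_mem _ fun i _ => ?_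
      exact Ideal.mul_mem_left _ _ (Ideal.subset_span ⟨i, (res_self (M := Coh.structureModule X) _).symm⟩)
    · rintro _ ⟨i, rfl⟩
      exact Ideal.subset_span ⟨b i, rfl⟩
  by_cases hx : x ∈ J.support
  · obtain ⟨⟨U, hU⟩, hxU, n, b, hb⟩ := hu x hx
    let bΓ : Module.Basis (Fin n) Γ(X, U) Γ(E, U) := b
    have hF : Frame.IsFrame E fun i => bΓ i := isFrame_basis hE hU bΓ
    exact ⟨U, hU, n, fun i => bΓ i, hxU, hF, hspan U hU n _ hF, WiebeLib.isExact_of_isKoszulRegularSeq _
      (KRegLib.seq_of_isRegular RegImm.Kind.koszul _ hb)⟩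
  · obtain ⟨U₀, n, hx₀, ⟨i⟩⟩ := hE x
    obtain ⟨b₀, hb₀⟩ := Frame.exists_frame i
    have hcl : IsClosed (J.support : Set X) := J.support.isClosed
    obtain ⟨U, hU, hxU, hle⟩ := Opens.isBasis_iff_nbhd.mp X.isBasis_affineOpens
      (show x ∈ U₀ ⊓ ⟨(J.support : Set X)ᶜ, hcl.isOpen_compl⟩ from ⟨hx₀, hx⟩)
    have hb := hb₀.res (hle.trans inf_le_left)
    refine ⟨U, hU, n, _, hxU, hb, hspan U hU n _ hb, KRegLib.isExact_of_span_eq_top ?_⟩
    rw [← hspan U hU n _ hb]
    refine PrimeSpectrum.zeroLocus_empty_iff_eq_top.1 (Set.eq_empty_iff_forall_notMem.2 fun p hp => ?_)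
    have h1 : hU.fromSpec p ∈ (J.support : Set X) ∩ (U : Set X) := by
      rw [J.coe_support_inter ⟨U, hU⟩, ← IsAffineOpen.fromSpec_image_zeroLocus hU]
      exact ⟨p, hp, rfl⟩
    exact (hle h1.2).2 h1.1


/-- The conormal sheaf of the blowing up in the bundle is the kernel of the tautological quotient. -/
theorem nonempty_conormal_iso {Y Y' P : Scheme.{u}}
    (E : Y.Modules) (hE : FlatMod.IsFinLocFree E) (u : E ⟶ Coh.structureModule Y)
    (J : Y.IdealSheafData)
    (hJ : ∀ U : Y.affineOpens, J.ideal U = @Ideal.span Γ(Y, U.1) _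
      (Set.range fun s : E.val.obj (op U.1) => ((u.val.app (op U.1)).hom s : Γ(Y, U.1))))
    (hu : ∀ y : Y, y ∈ J.support → ∃ U : Y.affineOpens, y ∈ U.1 ∧
      ∃ (n : ℕ) (b : Module.Basis (Fin n) Γ(Y, U.1) (E.val.obj (op U.1))),
        RegImm.Kind.Seq RegImm.Kind.regular Γ(Y, U.1)
          (List.ofFn fun k => ((u.val.app (op U.1)).hom (b k) : Γ(Y, U.1))))
    (π : P ⟶ Y) (O1 : P.Modules) (q : (Scheme.Modules.pullback π).obj E ⟶ O1)
    (hP : KRR.IsProjBundle π E O1 q)
    (f : Y' ⟶ Y) (hf : BlowUp.IsBlowUp f J)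
    (j : Y' ⟶ P) (hjπ : j ≫ π = f)
    (e : (Scheme.Modules.pullback j).obj O1 ≅ ClSub.idealMod (BlowUp.exceptional f J))
    (hcomp : (Scheme.Modules.pullbackCongr hjπ).inv.app E ≫ (Scheme.Modules.pullbackComp j π).inv.app E ≫
        (Scheme.Modules.pullback j).map q ≫ e.hom ≫ ClSub.idealModι (BlowUp.exceptional f J) =
      (Scheme.Modules.pullback f).map u ≫
        ((Scheme.Modules.pullbackPushforwardAdjunction f).homEquiv _ _).symm
          (SheafOfModules.unitToPushforwardObjUnit f.toRingCatSheafHom)) :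
    Nonempty (Omega.conormal j ≅ kernel ((Scheme.Modules.pullback j).map q)) := by
  have data : ∀ p : P, ∃ (U : Y.Opens) (hU : IsAffineOpen U) (m : ℕ) (b : Fin (m + 1) → Γ(E, U)) (k : Fin (m + 1)),
      Frame.IsFrame E b ∧ p ∈ locus q b k ∧
      J.ideal ⟨U, hU⟩ = Ideal.span (Set.range fun i => (show Γ(Y, U) from u.app U (b i))) ∧
      WiebeLib.IsExact fun i => (show Γ(Y, U) from u.app U (b i)) := by
    intro p
    obtain ⟨U, hU, n, b, hxU, hb, hJU, hex⟩ := exists_exact_frame hE hJ hu (π p)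
    obtain ⟨k, hk⟩ := exists_mem_locus q b hb hP (p := p) hxU
    obtain ⟨m, rfl⟩ : ∃ m, n = m + 1 := Nat.exists_eq_add_of_le' (Nat.lt_of_le_of_lt (Nat.zero_le _) k.2)
    exact ⟨U, hU, m, b, k, hb, hk, hJU, hex⟩
  haveI : IsClosedImmersion j := isClosedImmersion_of_charts j fun p => by
    obtain ⟨U, hU, m, b, k, hb, hk, hJU, hex⟩ := data p
    obtain ⟨hV, hcl, -, -⟩ := chart_data_eqs hjπ e hcomp b k hb hP hf hU _ (fun _ => rfl) hJU hex
    exact ⟨⟨_, hV⟩, hk, hcl⟩
  have hzero : kerVal u q ≫ ClSub.toSubscheme j.ker = 0 := hom_ext_cover fun p => by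
    obtain ⟨U, hU, m, b, k, hb, hk, hJU, hex⟩ := data p
    obtain ⟨κ, hκ, h⟩ := kerVal_toSubscheme hjπ e hcomp b k _ (fun _ => rfl) hb hP hf hU hJU hex
    exact ⟨_, m, κ, hk, hκ, h⟩
  let t : kernel q ⟶ ClSub.idealMod j.ker := kernel.lift _ (kerVal u q) hzero
  haveI : (Scheme.Modules.pullback j).IsLeftAdjoint :=
    (Scheme.Modules.pullbackPushforwardAdjunction j).isLeftAdjoint
  have h0 : (Scheme.Modules.pullback j).map (kernel.ι q) ≫ (Scheme.Modules.pullback j).map q = 0 := by
    rw [← Functor.map_comp, kernel.condition, Functor.map_zero]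
  let φ := kernel.lift _ _ h0
  let B : Set Y'.Opens := {W | ∃ (U : Y.Opens) (hU : IsAffineOpen U) (m : ℕ) (b : Fin (m + 1) → Γ(E, U))
    (k : Fin (m + 1)), Frame.IsFrame E b ∧
      J.ideal ⟨U, hU⟩ = Ideal.span (Set.range fun i => (show Γ(Y, U) from u.app U (b i))) ∧
      (WiebeLib.IsExact fun i => (show Γ(Y, U) from u.app U (b i))) ∧ W ≤ j ⁻¹ᵁ locus q b k}
  have hB : Opens.IsBasis B := Opens.isBasis_iff_nbhd.2 fun {W z} hz => by
    obtain ⟨U, hU, m, b, k, hb, hk, hJU, hex⟩ := data (j z)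
    exact ⟨W ⊓ j ⁻¹ᵁ locus q b k, ⟨U, hU, m, b, k, hb, hJU, hex, inf_le_right⟩, ⟨hz, hk⟩, inf_le_left⟩
  have hb2 : ∀ W ∈ B, Function.Bijective (((Scheme.Modules.pullback j).map t).app W) ∧
      Function.Bijective (φ.app W) := by
    rintro W ⟨U, hU, m, b, k, hb, hJU, hex, hW⟩
    exact bijective_compare hjπ e hcomp b k _ (fun _ => rfl) hb hP hf hU hJU hex t
      (kernel.lift_ι _ _ _) φ (kernel.lift_ι _ _ _) hW
  haveI := QCoh.isIso_of_isBasis ((Scheme.Modules.pullback j).map t) hB fun W hW => (hb2 W hW).1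
  haveI := QCoh.isIso_of_isBasis φ hB fun W hW => (hb2 W hW).2
  exact ⟨(asIso ((Scheme.Modules.pullback j).map t)).symm ≪≫ asIso φ⟩

end Groth.Agent.PBlow
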